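import Mathlib

set_option autoImplicit false
universe u

open Topology TopologicalSpace Order

namespace Groth.Agent.BMCoh

variable {A B : Type*} [TopologicalSpace A] [TopologicalSpace B]

/-- A space mapping by an inducing map onto a non-dense subset of an irreducible space has
dimension at least one less. -/
lemma topologicalKrullDim_add_one_le {f : A → B} (hf : IsInducing f) [IrreducibleSpace B]
    (hnd : ¬ Dense (Set.range f)) :
    topologicalKrullDim A + 1 ≤ topologicalKrullDim B := by
  let top : IrreducibleCloseds B :=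
    ⟨Set.univ, IrreducibleSpace.isIrreducible_univ B, isClosed_univ⟩
  let g := IrreducibleCloseds.map f hf.continuous
  have hg : StrictMono g := IrreducibleCloseds.map_strictMono_of_isInducing hf
  have hlt : ∀ a, g a < top := fun a => by
    refine lt_of_le_of_ne (fun _ _ => Set.mem_univ _) fun he => hnd ?_
    intro b
    have hb : b ∈ ((g a : IrreducibleCloseds B) : Set B) := he ▸ Set.mem_univ b
    exact closure_mono (Set.image_subset_range _ _) hb
  cases isEmpty_or_nonempty (IrreducibleCloseds A) with
  | inl h =>
    have : topologicalKrullDim A = ⊥ := krullDim_eq_bot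
    simp [this]
  | inr h =>
    have : Nonempty (IrreducibleCloseds B) := ⟨top⟩
    unfold topologicalKrullDim
    rw [krullDim_eq_iSup_height_of_nonempty, krullDim_eq_iSup_height_of_nonempty,
      show ((1 : WithBot ℕ∞)) = ((1 : ℕ∞) : WithBot ℕ∞) from rfl, ← WithBot.coe_add,
      WithBot.coe_le_coe, ENat.iSup_add]
    refine iSup_le fun a => ?_
    exact ((add_le_add_left (height_le_height_apply_of_strictMono g hg a) 1).trans
      (height_add_one_le (hlt a))).trans (le_iSup (fun b => height b) top)

/-- Preimage of an irreducible set contained in the subspace. -/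
lemma isIrreducible_preimage_val {K S : Set A} (hS : IsIrreducible S) (hSK : S ⊆ K) :
    IsIrreducible ((Subtype.val : K → A) ⁻¹' S) := by
  refine ⟨?_, ?_⟩
  · obtain ⟨a, ha⟩ := hS.nonempty
    exact ⟨⟨a, hSK ha⟩, ha⟩
  · rintro u v ⟨u', hu', rfl⟩ ⟨v', hv', rfl⟩ ⟨a, ha, ha'⟩ ⟨b, hb, hb'⟩
    obtain ⟨c, hc, hcu, hcv⟩ := hS.2 u' v' hu' hv' ⟨a.1, ha, ha'⟩ ⟨b.1, hb, hb'⟩
    exact ⟨⟨c, hSK hc⟩, hc, hcu, hcv⟩

/-- A chain of irreducible closed subsets inside a subspace bounds its dimension from below. -/
lemma length_le_topologicalKrullDim (K : Set A) (l : LTSeries (IrreducibleCloseds A))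
    (hl : ∀ i, ((l i : IrreducibleCloseds A) : Set A) ⊆ K) :
    (l.length : WithBot ℕ∞) ≤ topologicalKrullDim K := by
  let G : Fin (l.length + 1) → IrreducibleCloseds K := fun i =>
    ⟨Subtype.val ⁻¹' ((l i : IrreducibleCloseds A) : Set A),
      isIrreducible_preimage_val (l i).isIrreducible (hl i),
      (l i).isClosed.preimage continuous_subtype_val⟩
  have hG : StrictMono G := by
    intro i j hij
    refine lt_of_le_of_ne (fun x hx => (l.strictMono hij).le hx) fun he => (l.strictMono hij).ne ?_
    refine IrreducibleCloseds.ext (Set.Subset.antisymm (l.strictMono hij).le fun x hx => ?_)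
    have : (⟨x, hl j hx⟩ : K) ∈ ((G j : IrreducibleCloseds K) : Set K) := hx
    rw [← he] at this
    exact this
  exact (LTSeries.mk l.length G hG).length_le_krullDim

end Groth.Agent.BMCoh
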