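import Groth.Prelude.Def_BMCoh2
import Groth.Agent.BMCoh.Topology

set_option autoImplicit false
universe u

open AlgebraicGeometry CategoryTheory CategoryTheory.Limits Opposite TopologicalSpace Topology BMCoh

noncomputable section

namespace Groth.Agent.BMCoh

/-- The subscheme of a vanishing ideal sheaf is reduced. -/
lemma isReduced_vanishingIdeal_subscheme {X : Scheme.{u}} (Z : Closeds X) :
    IsReduced (Scheme.IdealSheafData.vanishingIdeal Z).subscheme := by
  let I := Scheme.IdealSheafData.vanishingIdeal Z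
  have : ∀ i, IsReduced (I.subschemeCover.openCover.X i) := fun U => by
    change IsReduced (Spec (CommRingCat.of (Γ(X, U.1) ⧸ I.ideal U)))
    have : _root_.IsReduced (Γ(X, U.1) ⧸ I.ideal U) := by
      rw [← Ideal.isRadical_iff_quotient_reduced]
      simp only [I]
      exact PrimeSpectrum.isRadical_vanishingIdeal _
    infer_instance
  exact AlgebraicGeometry.IsReduced.of_openCover (X := _) I.subschemeCover.openCover

lemma natDim_le_of_isInducing {A B : Type*} [TopologicalSpace A] [TopologicalSpace B] {f : A → B}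
    (hf : IsInducing f) (hB : topologicalKrullDim B < ⊤) :
    WeilCoh.natDim A ≤ WeilCoh.natDim B := by
  have h := hf.topologicalKrullDim_le
  unfold WeilCoh.natDim
  revert h hB
  generalize topologicalKrullDim A = a
  generalize topologicalKrullDim B = b
  intro hB h
  induction a using WithBot.recBotCoe with
  | bot => simp
  | coe a =>
    induction b using WithBot.recBotCoe with
    | bot => simp at h
    | coe b =>
      have hb : b ≠ ⊤ := fun e => hB.ne (by rw [e]; rfl)
      exact ENat.toNat_le_toNat (WithBot.coe_le_coe.mp h) hb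

lemma coe_natDim {A : Type*} [TopologicalSpace A] [Nonempty A] (hA : topologicalKrullDim A < ⊤) :
    topologicalKrullDim A = ((WeilCoh.natDim A : ℕ) : ℕ∞) := by
  unfold WeilCoh.natDim
  have h0 : topologicalKrullDim A ≠ ⊥ := by
    have : Nonempty (IrreducibleCloseds A) := ⟨⟨closure {Classical.arbitrary A},
      isIrreducible_singleton.closure, isClosed_closure⟩⟩
    exact (Order.krullDim_nonneg).trans_lt' (WithBot.bot_lt_coe _) |>.ne'
  revert h0 hA
  generalize topologicalKrullDim A = a
  intro hA h0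
  induction a using WithBot.recBotCoe with
  | bot => exact absurd rfl h0
  | coe a =>
    have ha : a ≠ ⊤ := fun e => hA.ne (by rw [e]; rfl)
    simp [ENat.natCast_toNat ha]

lemma natDim_eq_zero_of_isEmpty (A : Type*) [TopologicalSpace A] [IsEmpty A] :
    WeilCoh.natDim A = 0 := by
  have : IsEmpty (IrreducibleCloseds A) := ⟨fun K => isEmptyElim K.isIrreducible.nonempty.some⟩
  have h : topologicalKrullDim A = ⊥ := Order.krullDim_eq_bot
  simp [WeilCoh.natDim, h]

variable {V : ObjectProperty Scheme.{u}} [IsConstructible V] (X : Obj V)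

lemma finite_dim : topologicalKrullDim X.scheme < ⊤ := IsConstructible.finiteDim X.mem

lemma noetherianSpace : NoetherianSpace X.scheme := by
  have := IsConstructible.isNoetherian X.mem
  infer_instance

lemma finite_subspace (s : Set X.scheme) : topologicalKrullDim s < ⊤ :=
  (topologicalKrullDim_subspace_le _ s).trans_lt (finite_dim X)

lemma pdim_le_dim (x : X.scheme) : WeilCoh.pdim X.scheme x ≤ WeilCoh.dim X.scheme :=
  natDim_le_of_isInducing IsInducing.subtypeVal (finite_dim X)

lemma codim_eq_iff (x : X.scheme) (c : ℕ) :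
    WeilCoh.codim X.scheme x = c ↔ WeilCoh.pdim X.scheme x + c = WeilCoh.dim X.scheme := by
  have := pdim_le_dim X x
  unfold WeilCoh.codim
  omega

lemma lt_codim_iff (x : X.scheme) (c : ℕ) :
    c < WeilCoh.codim X.scheme x ↔ WeilCoh.pdim X.scheme x + c < WeilCoh.dim X.scheme := by
  have := pdim_le_dim X x
  unfold WeilCoh.codim
  omega

lemma eq_of_specializes_antisymm {S : Scheme.{u}} {x y : S} (h : x ⤳ y) (h' : y ⤳ x) : x = y :=
  (h.antisymm h').eq

/-- The dimension of the closure of a point strictly decreases under proper specialization. -/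
lemma pdim_lt {x y : X.scheme} (h : x ⤳ y) (hne : x ≠ y) :
    WeilCoh.pdim X.scheme y < WeilCoh.pdim X.scheme x := by
  have hsub : closure ({y} : Set X.scheme) ⊆ closure {x} :=
    specializes_iff_closure_subset.mp h
  let f : closure ({y} : Set X.scheme) → closure ({x} : Set X.scheme) := Set.inclusion hsub
  have hf : IsInducing f := (IsEmbedding.inclusion hsub).isInducing
  have : IrreducibleSpace (closure ({x} : Set X.scheme)) :=
    irreducibleSpace (isIrreducible_singleton.closure)
  have hnd : ¬ Dense (Set.range f) := by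
    intro hd
    have hx : (⟨x, subset_closure rfl⟩ : closure ({x} : Set X.scheme)) ∈ closure (Set.range f) :=
      hd _
    rw [closure_subtype] at hx
    have hxy : x ∈ closure ({y} : Set X.scheme) := by
      refine closure_minimal ?_ isClosed_closure hx
      rintro _ ⟨_, ⟨b, rfl⟩, rfl⟩
      exact b.2
    exact hne (eq_of_specializes_antisymm h (specializes_iff_mem_closure.mpr hxy))
  have key := topologicalKrullDim_add_one_le hf hnd
  have : Nonempty (closure ({y} : Set X.scheme)) := ⟨⟨y, subset_closure rfl⟩⟩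
  have : Nonempty (closure ({x} : Set X.scheme)) := ⟨⟨x, subset_closure rfl⟩⟩
  rw [coe_natDim (finite_subspace X _), coe_natDim (finite_subspace X _)] at key
  change (((WeilCoh.pdim X.scheme y : ℕ) : ℕ∞) : WithBot ℕ∞) + 1 ≤
    ((WeilCoh.pdim X.scheme x : ℕ) : ℕ∞) at key
  norm_cast at key
where
  irreducibleSpace {A : Type u} [TopologicalSpace A] {s : Set A} (hs : IsIrreducible s) :
      IrreducibleSpace s := by
    have : Nonempty s := hs.nonempty.to_subtype
    have h := isIrreducible_preimage_val hs (le_refl s)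
    rw [Subtype.coe_preimage_self] at h
    exact (irreducibleSpace_def s).mpr h

lemma range_ptSubι (x : X.scheme) : Set.range (X.ptSubι x) = closure {x} := by
  rw [Scheme.IdealSheafData.range_subschemeι]
  exact Scheme.IdealSheafData.coe_support_vanishingIdeal _

lemma dim_ptSub (x : X.scheme) : WeilCoh.dim (X.ptSub x).scheme = WeilCoh.pdim X.scheme x := by
  have e := ((X.ptSubι x).isEmbedding.toHomeomorph).trans (Homeomorph.setCongr (range_ptSubι X x))
  exact congrArg (fun a : WithBot ℕ∞ => (a.unbotD 0).toNat) e.isHomeomorph.topologicalKrullDim_eq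

lemma irreducibleSpace_ptSub (x : X.scheme) : IrreducibleSpace (X.ptSub x).scheme := by
  have h : IsIrreducible (Set.range (X.ptSubι x)) :=
    range_ptSubι X x ▸ isIrreducible_singleton.closure
  have := pdim_lt.irreducibleSpace h
  exact (X.ptSubι x).isEmbedding.toHomeomorph.symm.surjective.irreducibleSpace
    (X.ptSubι x).isEmbedding.toHomeomorph.symm.continuous

lemma isReduced_ptSub (x : X.scheme) : IsReduced (X.ptSub x).scheme :=
  isReduced_vanishingIdeal_subscheme _

/-- Every nonempty open of the closure of a point has the dimension of that closure. -/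
lemma dim_ptSub_open (x : X.scheme) (W : (X.ptSub x).scheme.Opens)
    (hW : (W : Set (X.ptSub x).scheme).Nonempty) :
    WeilCoh.dim W.toScheme = WeilCoh.dim (X.ptSub x).scheme :=
  IsConstructible.dim_open (X.ptSub x).mem (irreducibleSpace_ptSub X x) W hW

/-- The preimage of an open in the closure of a point. -/
abbrev ptPre (x : X.scheme) (U : X.scheme.Opens) : (X.ptSub x).scheme.Opens :=
  X.ptSubι x ⁻¹ᵁ U

lemma exists_ptSubι_eq (x : X.scheme) : ∃ p, X.ptSubι x p = x := by
  change x ∈ Set.range (X.ptSubι x)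
  rw [range_ptSubι]
  exact subset_closure rfl

lemma ptPre_nonempty {x : X.scheme} {U : X.scheme.Opens} (hx : x ∈ U) :
    (ptPre X x U : Set (X.ptSub x).scheme).Nonempty := by
  obtain ⟨p, hp⟩ := exists_ptSubι_eq X x
  exact ⟨p, show X.ptSubι x p ∈ U by rwa [hp]⟩

/-- An open through the point `x` has dimension at least that of the closure of `x`. -/
lemma pdim_le_dim_open {x : X.scheme} {U : X.scheme.Opens} (hx : x ∈ U) :
    WeilCoh.pdim X.scheme x ≤ WeilCoh.dim U.toScheme := by
  rw [← dim_ptSub, ← dim_ptSub_open X x (ptPre X x U) (ptPre_nonempty X hx)]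
  exact natDim_le_of_isInducing (X.ptSubι x ∣_ U).isEmbedding.isInducing (finite_dim (X.res U))

lemma dim_open_le (U : X.scheme.Opens) : WeilCoh.dim U.toScheme ≤ WeilCoh.dim X.scheme :=
  natDim_le_of_isInducing U.ι.isEmbedding.isInducing (finite_dim X)

/-- Points with closures of every dimension up to the dimension of the scheme exist. -/
lemma exists_pdim_eq [Nonempty X.scheme] {k : ℕ} (hk : k ≤ WeilCoh.dim X.scheme) :
    ∃ x : X.scheme, WeilCoh.pdim X.scheme x = k := by
  have hd := coe_natDim (finite_dim X)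
  obtain ⟨l, hl⟩ := (Order.le_krullDim_iff (n := WeilCoh.dim X.scheme)).mp hd.ge
  let g : Fin (l.length + 1) → X.scheme := fun i => (l i).isIrreducible.genericPoint
  have hg : ∀ i, closure ({g i} : Set X.scheme) = ((l i : IrreducibleCloseds X.scheme) : Set _) :=
    fun i => (l i).isIrreducible.genericPoint_closure_eq.trans (l i).isClosed.closure_eq
  have hstep : ∀ i j, i < j → WeilCoh.pdim X.scheme (g i) < WeilCoh.pdim X.scheme (g j) := by
    intro i j hij
    refine pdim_lt X ?_ fun e => (l.strictMono hij).ne ?_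
    · rw [specializes_iff_closure_subset, hg, hg]
      exact (l.strictMono hij).le
    · exact IrreducibleCloseds.ext (by rw [← hg, ← hg, e])
  have hlow : ∀ (m : ℕ) (hm : m < l.length + 1), m ≤ WeilCoh.pdim X.scheme (g ⟨m, hm⟩) := by
    intro m
    induction m with
    | zero => simp
    | succ m ih =>
      intro hm
      exact (ih (by omega)).trans_lt (hstep ⟨m, by omega⟩ ⟨m + 1, hm⟩ (by simp))
  have hup : ∀ (d : ℕ) (hd : d ≤ l.length),
      WeilCoh.pdim X.scheme (g ⟨l.length - d, by omega⟩) + d ≤ WeilCoh.dim X.scheme := by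
    intro d
    induction d with
    | zero => intro _; exact pdim_le_dim X _
    | succ d ih =>
      intro hd
      have := hstep ⟨l.length - (d + 1), by omega⟩ ⟨l.length - d, by omega⟩
        (by simp only [Fin.mk_lt_mk]; omega)
      have := ih (by omega)
      omega
  have h₁ := hlow k (by omega)
  have h₂ := hup (l.length - k) (by omega)
  have e : l.length - (l.length - k) = k := by omega
  simp only [e] at h₂
  exact ⟨g ⟨k, by omega⟩, by omega⟩

/-- An open containing all points of codimension zero has the dimension of the whole. -/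
lemma dim_open_eq (U : X.scheme.Opens)
    (h : ∀ x, WeilCoh.codim X.scheme x = 0 → x ∈ U) :
    WeilCoh.dim U.toScheme = WeilCoh.dim X.scheme := by
  refine le_antisymm (dim_open_le X U) ?_
  cases isEmpty_or_nonempty X.scheme with
  | inl h => exact (natDim_eq_zero_of_isEmpty X.scheme).trans_le (Nat.zero_le _)
  | inr _ =>
    obtain ⟨x, hx⟩ := exists_pdim_eq X le_rfl
    exact hx ▸ pdim_le_dim_open X (h x (by rw [codim_eq_iff, hx, add_zero]))

lemma dim_eq_of_containsFj {j : ℕ} {U : X.scheme.Opens} (h : ContainsFj X j U) :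
    WeilCoh.dim U.toScheme = WeilCoh.dim X.scheme :=
  dim_open_eq X U fun x hx => h x (by omega)

/-- An open containing the points of codimension at most `j`, as an index. -/
abbrev mkIdx {j : ℕ} (U : X.scheme.Opens) (h : ContainsFj X j U) : Idx X (ContainsFj X j) :=
  ⟨U, h, dim_eq_of_containsFj X h⟩

/-- A nonempty open of the closure of a point, as an index. -/
abbrev mkPtIdx {x : X.scheme} (W : (X.ptSub x).scheme.Opens)
    (h : (W : Set (X.ptSub x).scheme).Nonempty) :
    Idx (X.ptSub x) (fun W => (W : Set (X.ptSub x).scheme).Nonempty) :=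
  ⟨W, h, dim_ptSub_open X x W h⟩

lemma mem_of_open_ptSub {x : X.scheme} (W : (X.ptSub x).scheme.Opens)
    (hW : (W : Set (X.ptSub x).scheme).Nonempty) {p : (X.ptSub x).scheme}
    (hp : X.ptSubι x p = x) : p ∈ W := by
  obtain ⟨U, hU, hUW⟩ := (X.ptSubι x).isEmbedding.isInducing.isOpen_iff.mp W.2
  obtain ⟨q, hq⟩ := hW
  have hqU : X.ptSubι x q ∈ U := by
    change q ∈ X.ptSubι x ⁻¹' U
    rw [hUW]
    exact hq
  have hsp : x ⤳ X.ptSubι x q := by
    rw [specializes_iff_mem_closure, ← range_ptSubι]
    exact ⟨q, rfl⟩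
  rw [← SetLike.mem_coe]
  change p ∈ W.1
  rw [← hUW]
  change X.ptSubι x p ∈ U
  rw [hp]
  exact hsp.mem_open hU hqU

/-- Every nonempty open of the closure of `x` is the trace of an open through `x` containing all
points of codimension at most that of `x`. -/
lemma exists_ptPre_eq (x : X.scheme) (W : (X.ptSub x).scheme.Opens)
    (hW : (W : Set (X.ptSub x).scheme).Nonempty) :
    ∃ U : X.scheme.Opens, x ∈ U ∧ ContainsFj X (WeilCoh.codim X.scheme x) U ∧
      (closure ({x} : Set X.scheme))ᶜ ⊆ (U : Set X.scheme) ∧ ptPre X x U = W := by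
  let C : Set X.scheme := X.ptSubι x '' (W : Set (X.ptSub x).scheme)ᶜ
  have hC : IsClosed C :=
    (X.ptSubι x).isClosedEmbedding.isClosedMap _ W.2.isClosed_compl
  refine ⟨⟨Cᶜ, hC.isOpen_compl⟩, ?_, ?_, ?_, ?_⟩
  rotate_left 2
  · rintro y hy ⟨p, -, rfl⟩
    exact hy (range_ptSubι X x ▸ ⟨p, rfl⟩)
  rotate_left 1
  · rintro ⟨p, hp, hpx⟩
    exact hp (mem_of_open_ptSub X W hW hpx)
  · intro y hy
    rintro ⟨p, hp, rfl⟩
    have hsp : x ⤳ X.ptSubι x p := by
      rw [specializes_iff_mem_closure, ← range_ptSubι]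
      exact ⟨p, rfl⟩
    have hne : x ≠ X.ptSubι x p := fun e => hp (mem_of_open_ptSub X W hW e.symm)
    have := pdim_lt X hsp hne
    have := pdim_le_dim X x
    simp only [WeilCoh.codim] at hy
    omega
  · ext p
    change X.ptSubι x p ∉ C ↔ p ∈ W
    rw [show (X.ptSubι x p ∈ C) = (p ∈ ((W : Set (X.ptSub x).scheme)ᶜ)) from
      propext (X.ptSubι x).isEmbedding.injective.mem_set_image]
    simp

/-- A point of a closed set is maximal if no other point of the set specializes to it. -/
def IsMaximalIn {S : Scheme.{u}} (C : Set S) (x : S) : Prop :=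
  x ∈ C ∧ ∀ y ∈ C, y ⤳ x → y = x

/-- Near a maximal point of a closed set only its closure is seen. -/
lemma exists_open_inter_subset {C : Set X.scheme} (hC : IsClosed C) {x : X.scheme}
    (hx : IsMaximalIn C x) :
    ∃ Y : X.scheme.Opens, x ∈ Y ∧ Cᶜ ⊆ (Y : Set X.scheme) ∧
      (Y : Set X.scheme) ∩ C ⊆ closure {x} := by
  have := noetherianSpace X
  obtain ⟨S, hSf, hSc, hSi, hS⟩ :=
    NoetherianSpace.exists_finite_set_isClosed_irreducible hC
  let D : Set X.scheme := ⋃₀ {K ∈ S | x ∉ K}
  have hD : IsClosed D := by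
    change IsClosed (⋃₀ {K ∈ S | x ∉ K})
    rw [Set.sUnion_eq_biUnion]
    exact (hSf.subset (Set.sep_subset _ _)).isClosed_biUnion fun K hK => hSc K hK.1
  refine ⟨⟨Dᶜ, hD.isOpen_compl⟩, ?_, ?_, ?_⟩
  · rintro ⟨K, hK, hxK⟩
    exact hK.2 hxK
  · rintro y hy ⟨K, hK, hyK⟩
    exact hy (hS ▸ ⟨K, hK.1, hyK⟩)
  · rintro y ⟨hyD, hyC⟩
    rw [hS] at hyC
    obtain ⟨K, hK, hyK⟩ := hyC
    have hxK : x ∈ K := by
      by_contra h
      exact hyD ⟨K, ⟨hK, h⟩, hyK⟩
    have hgen := (hSi K hK).genericPoint_closure_eq.trans (hSc K hK).closure_eq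
    have hgC : (hSi K hK).genericPoint ∈ C := by
      rw [hS]
      exact ⟨K, hK, hgen.le (subset_closure (Set.mem_singleton _))⟩
    have hgx : (hSi K hK).genericPoint ⤳ x := by
      rw [specializes_iff_mem_closure, hgen]
      exact hxK
    have e := hx.2 _ hgC hgx
    rw [← e]
    exact hgen.ge hyK

lemma finite_maximal {C : Set X.scheme} (hC : IsClosed C) :
    {x | IsMaximalIn C x}.Finite := by
  have := noetherianSpace X
  obtain ⟨S, hSf, hSc, hSi, hS⟩ :=
    NoetherianSpace.exists_finite_set_isClosed_irreducible hC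
  have := hSf.to_subtype
  refine (Set.finite_range fun K : S => (hSi K.1 K.2).genericPoint).subset ?_
  rintro x ⟨hxC, hx⟩
  rw [hS] at hxC
  obtain ⟨K, hK, hxK⟩ := hxC
  have hgen := (hSi K hK).genericPoint_closure_eq.trans (hSc K hK).closure_eq
  refine ⟨⟨K, hK⟩, hx _ (hS ▸ ⟨K, hK, hgen.le (subset_closure (Set.mem_singleton _))⟩) ?_⟩
  rw [specializes_iff_mem_closure, hgen]
  exact hxK

lemma isMaximalIn_of_codim {j : ℕ} {U : X.scheme.Opens} (hU : ContainsFj X j U) {x : X.scheme}
    (hxU : x ∉ U) (hx : WeilCoh.codim X.scheme x = j + 1) :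
    IsMaximalIn (U : Set X.scheme)ᶜ x := by
  refine ⟨hxU, fun y hy hyx => ?_⟩
  by_contra hne
  apply hy (hU y ?_)
  have := pdim_lt X hyx hne
  have := pdim_le_dim X y
  simp only [WeilCoh.codim] at hx ⊢
  omega

lemma exists_maximal_of_nonempty {C : Set X.scheme} (hC : IsClosed C) (hne : C.Nonempty) :
    ∃ x, IsMaximalIn C x := by
  classical
  have hb : ∀ n ∈ {n | ∃ y ∈ C, WeilCoh.pdim X.scheme y = n}, n ≤ WeilCoh.dim X.scheme := by
    rintro n ⟨y, -, rfl⟩
    exact pdim_le_dim X y
  obtain ⟨y₀, hy₀⟩ := hne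
  have hmem := Nat.sSup_mem (s := {n | ∃ y ∈ C, WeilCoh.pdim X.scheme y = n})
    ⟨_, y₀, hy₀, rfl⟩ ⟨_, hb⟩
  obtain ⟨x, hxC, hx⟩ := hmem
  refine ⟨x, hxC, fun y hy hyx => ?_⟩
  by_contra hne
  have h₁ := pdim_lt X hyx hne
  have h₂ : WeilCoh.pdim X.scheme y ≤ sSup {n | ∃ y ∈ C, WeilCoh.pdim X.scheme y = n} :=
    le_csSup ⟨_, hb⟩ ⟨y, hy, rfl⟩
  omega

end Groth.Agent.BMCoh
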