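import Groth.Agent.BMCoh.Steps

set_option autoImplicit false
set_option linter.unusedSectionVars false
universe u

open AlgebraicGeometry CategoryTheory CategoryTheory.Limits Opposite TopologicalSpace Topology BMCoh

noncomputable section

namespace Groth.Agent.BMCoh

variable {V : ObjectProperty Scheme.{u}} [IsConstructible V] {R : Type u} [CommRing R] {A : Coefs R}
  (T : PreTheory V R A)

lemma isClosedImmersion_of_isClosed_range {W Z : Obj V} (g : W ⟶ Z)
    (hg : IsClosed (Set.range g.hom)) : IsClosedImmersion g.hom :=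
  IsClosedImmersion.of_isPreimmersion g.hom hg

/-- The decomposition given by a morphism of objects with closed range and its open complement. -/
def clopenDecomp {W U Z : Obj V} (g : W ⟶ Z) (j : U ⟶ Z)
    (h : Set.range j.hom = (Set.range g.hom)ᶜ) : Decomp Z where
  Z := W
  U := U
  i := g.hom
  closedImm := isClosedImmersion_of_isClosed_range g (by
    rw [← compl_compl (Set.range g.hom), ← h]
    exact j.hom.isOpenEmbedding.isOpen_range.isClosed_compl)
  j := j
  range_eq := h

lemma relCodim_hom {W Z : Obj V} (g : W ⟶ Z) : relCodim W.scheme Z.scheme = 0 := by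
  simp [relCodim, g.dim_eq]

/-- Push-forward along a clopen piece then restriction to it is the identity. -/
lemma pull_push_self {W Z : Obj V} (g : W ⟶ Z) [IsProper g.hom] (M : A.Cat) (i n : ℤ)
    (hi : i = i + 2 * relCodim W.scheme Z.scheme) (hn : n = n + relCodim W.scheme Z.scheme)
    (c : T.gp W M i n) :
    (T.pull g M i n).hom ((T.push g.hom M i n i n hi hn).hom c) = c := by
  have hi' : i = i + 2 * relCodim W.scheme W.scheme := by simp [relCodim]
  have hn' : n = n + relCodim W.scheme W.scheme := by simp [relCodim]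
  have key := congr($(T.push_pull g.hom (𝟙 W.scheme) g (𝟙 W)
    (IsKernelPair.id_of_mono g.hom) M i n i n hi hn hi' hn').hom c)
  rw [T.push_id] at key
  exact key.trans (pull_id T M i n c)

/-- Two complementary pieces detect classes. -/
lemma eq_zero_of_pull_two {W U Z : Obj V} (g : W ⟶ Z) (j : U ⟶ Z)
    (h : Set.range j.hom = (Set.range g.hom)ᶜ) (M : A.Cat) (i n : ℤ) (a : T.gp Z M i n)
    (hg : (T.pull g M i n).hom a = 0) (hj : (T.pull j M i n).hom a = 0) : a = 0 := by
  let D := clopenDecomp g j h
  have : IsClosedImmersion g.hom := D.closedImm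
  have hr : relCodim W.scheme Z.scheme = 0 := relCodim_hom g
  obtain ⟨c, hc⟩ := exists_of_pull_j_eq_zero T D M i n i n
    (by change i = i + 2 * relCodim W.scheme Z.scheme; omega)
    (by change n = n + relCodim W.scheme Z.scheme; omega) a hj
  have hc0 : c = 0 := by
    rw [← pull_push_self T g M i n (by omega) (by omega) c]
    exact (congrArg _ hc).trans hg
  rw [← hc, hc0]
  exact map_zero _

/-- A morphism of objects factors through an open containing its image. -/
lemma exists_lift {W Z : Obj V} (g : W ⟶ Z) (O : Z.scheme.Opens)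
    (h : Set.range g.hom ⊆ (O : Set Z.scheme)) (hd : WeilCoh.dim O.toScheme = WeilCoh.dim Z.scheme) :
    ∃ g' : W ⟶ Z.res O, g' ≫ Z.resι O hd = g := by
  let l : W.scheme ⟶ O.toScheme := IsOpenImmersion.lift O.ι g.hom (by simpa using h)
  have hl : l ≫ O.ι = g.hom := IsOpenImmersion.lift_fac _ _ _
  have : IsOpenImmersion (l ≫ O.ι) := by rw [hl]; infer_instance
  exact ⟨⟨l, IsOpenImmersion.of_comp l O.ι, g.dim_eq.trans hd.symm⟩, BMCoh.Hom.ext hl⟩

lemma dim_eq_of_range_subset {W Z : Obj V} (g : W ⟶ Z) (O : Z.scheme.Opens)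
    (h : Set.range g.hom ⊆ (O : Set Z.scheme)) : WeilCoh.dim O.toScheme = WeilCoh.dim Z.scheme := by
  refine le_antisymm (dim_open_le Z O) ?_
  rw [← g.dim_eq]
  exact natDim_le_of_isInducing
    (IsOpenImmersion.lift O.ι g.hom (by simpa using h)).isOpenEmbedding.isInducing
    (finite_dim (Z.res O))

/-- Restriction to a clopen piece kills push-forward from a disjoint one. -/
lemma pull_push_disjoint {W W' Z : Obj V} (g : W ⟶ Z) (g' : W' ⟶ Z) [IsProper g'.hom]
    (h : Disjoint (Set.range g.hom) (Set.range g'.hom)) (M : A.Cat) (i n : ℤ)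
    (hi : i = i + 2 * relCodim W'.scheme Z.scheme) (hn : n = n + relCodim W'.scheme Z.scheme)
    (c : T.gp W' M i n) :
    (T.pull g M i n).hom ((T.push g'.hom M i n i n hi hn).hom c) = 0 := by
  have hcl : IsClosed (Set.range g'.hom) := g'.hom.isClosedMap.isClosed_range
  let O : Z.scheme.Opens := ⟨(Set.range g'.hom)ᶜ, hcl.isOpen_compl⟩
  have hd := dim_eq_of_range_subset g O fun z hz hz' => h.le_bot ⟨hz, hz'⟩
  obtain ⟨l, hl⟩ := exists_lift g O (fun z hz hz' => h.le_bot ⟨hz, hz'⟩) hd
  rw [← hl, ← pull_pull]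
  have := pull_j_push T (clopenDecomp g' (Z.resι O hd) (Scheme.Opens.range_ι O)) M i n i n hi hn c
  exact (congrArg _ this).trans (map_zero _)

/-- Classes on an empty object vanish. -/
lemma eq_zero_of_isEmpty {Z : Obj V} [IsEmpty Z.scheme] (M : A.Cat) (i n : ℤ) (a : T.gp Z M i n) :
    a = 0 :=
  eq_zero_of_pull_two T (𝟙 Z) (𝟙 Z) (Subsingleton.elim _ _) M i n a
    ((pull_id T M i n a).trans (by
      let D := clopenDecomp (𝟙 Z) (𝟙 Z) (Subsingleton.elim _ _)
      have : IsClosedImmersion (BMCoh.Hom.hom (𝟙 Z)) := D.closedImm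
      have h := pull_j_push T D M i n i n (by simp [relCodim, D, clopenDecomp])
        (by simp [relCodim, D, clopenDecomp]) a
      exact (pull_push_self T (𝟙 Z) M i n (by simp [relCodim]) (by simp [relCodim]) a).symm.trans h))
    ((pull_id T M i n a).trans (by
      let D := clopenDecomp (𝟙 Z) (𝟙 Z) (Subsingleton.elim _ _)
      have : IsClosedImmersion (BMCoh.Hom.hom (𝟙 Z)) := D.closedImm
      have h := pull_j_push T D M i n i n (by simp [relCodim, D, clopenDecomp])
        (by simp [relCodim, D, clopenDecomp]) a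
      exact (pull_push_self T (𝟙 Z) M i n (by simp [relCodim]) (by simp [relCodim]) a).symm.trans h))

section Family

variable {ι : Type*} {Z : Obj V} {W : ι → Obj V} (g : ∀ k, W k ⟶ Z)
  (hdisj : Pairwise fun k l => Disjoint (Set.range (g k).hom) (Set.range (g l).hom))

include hdisj in
lemma eq_zero_of_pull_family [Finite ι] (hcov : ⋃ k, Set.range (g k).hom = Set.univ) (M : A.Cat)
    (i n : ℤ) (a : T.gp Z M i n) (ha : ∀ k, (T.pull (g k) M i n).hom a = 0) : a = 0 := by
  classical
  cases nonempty_fintype ι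
  let O : Finset ι → Z.scheme.Opens := fun s => s.sup fun k => (g k).hom.opensRange
  have hOmem : ∀ s z, z ∈ O s ↔ ∃ k ∈ s, z ∈ Set.range (g k).hom := by
    intro s z
    change z ∈ s.sup _ ↔ _
    rw [← SetLike.mem_coe, TopologicalSpace.Opens.coe_finset_sup]
    simp
  have key : ∀ s : Finset ι, s.Nonempty → ∀ hd : WeilCoh.dim (O s).toScheme = WeilCoh.dim Z.scheme,
      (T.pull (Z.resι (O s) hd) M i n).hom a = 0 := by
    intro s hs
    induction hs using Finset.Nonempty.cons_induction with
    | singleton k =>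
      intro hd
      have hsub : ((O {k} : Z.scheme.Opens) : Set Z.scheme) ⊆ Set.range (g k).hom := by
        intro z hz
        simpa [hOmem] using hz
      let l : (O {k}).toScheme ⟶ (W k).scheme :=
        IsOpenImmersion.lift (g k).hom (O {k}).ι (by simpa using hsub)
      have hl : l ≫ (g k).hom = (O {k}).ι := IsOpenImmersion.lift_fac _ _ _
      have : IsOpenImmersion (l ≫ (g k).hom) := by rw [hl]; infer_instance
      let ψ : Z.res (O {k}) ⟶ W k :=
        ⟨l, IsOpenImmersion.of_comp l (g k).hom, hd.trans (g k).dim_eq.symm⟩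
      have hψ : ψ ≫ g k = Z.resι (O {k}) hd := BMCoh.Hom.ext hl
      rw [← hψ, ← pull_pull, ha]
      exact map_zero _
    | cons k s hk hs ih =>
      intro hd
      obtain ⟨m, hm⟩ := hs
      have hdm : WeilCoh.dim (O s).toScheme = WeilCoh.dim Z.scheme :=
        dim_eq_of_range_subset (g m) (O s) fun z hz => (hOmem s z).mpr ⟨m, hm, hz⟩
      have hle : O s ≤ O (Finset.cons k s hk) := Finset.sup_mono (Finset.subset_cons hk)
      have hrg : Set.range (g k).hom ⊆ (O (Finset.cons k s hk) : Set Z.scheme) :=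
        fun z hz => (hOmem _ z).mpr ⟨k, Finset.mem_cons_self _ _, hz⟩
      obtain ⟨g', hg'⟩ := exists_lift (g k) _ hrg hd
      refine eq_zero_of_pull_two T g' (Z.resLE hle (hdm.trans hd.symm)) ?_ M i n _ ?_ ?_
      · ext z
        have e : ∀ y, (g'.hom y).1 = (g k).hom y := fun y => by
          rw [← hg']; rfl
        change z ∈ Set.range (Z.scheme.homOfLE hle) ↔ _
        constructor
        · rintro ⟨y, rfl⟩ ⟨w, hw⟩
          obtain ⟨p, hp, hpy⟩ := (hOmem s _).mp y.2
          have e1 : (g k).hom w = y.1 := by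
            rw [← e, hw]
            exact Scheme.homOfLE_apply _ _
          refine (hdisj (?_ : k ≠ p)).le_bot ⟨⟨w, e1⟩, hpy⟩
          rintro rfl
          exact hk hp
        · intro hz
          obtain ⟨p, hp, hpz⟩ := (hOmem _ z.1).mp z.2
          rcases Finset.mem_cons.mp hp with rfl | hp
          · obtain ⟨w, hw⟩ := hpz
            exact absurd ⟨w, Subtype.ext ((e w).trans hw)⟩ hz
          · exact ⟨⟨z.1, (hOmem s _).mpr ⟨p, hp, hpz⟩⟩, Subtype.ext (Scheme.homOfLE_apply _ _)⟩
      · rw [pull_pull, hg', ha]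
      · rw [pull_pull]
        have e : Z.resLE hle (hdm.trans hd.symm) ≫ Z.resι _ hd = Z.resι (O s) hdm :=
          BMCoh.Hom.ext (Z.scheme.homOfLE_ι hle)
        rw [e]
        exact ih hdm
  cases isEmpty_or_nonempty ι with
  | inl h =>
    have : IsEmpty Z.scheme := ⟨fun z => by
      have := hcov.ge (Set.mem_univ z)
      simp at this⟩
    exact eq_zero_of_isEmpty T M i n a
  | inr h =>
    have htop : O Finset.univ = ⊤ := top_le_iff.mp fun z _ =>
      (hOmem _ z).mpr (by simpa using hcov.ge (Set.mem_univ z))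
    have hd : WeilCoh.dim (O Finset.univ).toScheme = WeilCoh.dim Z.scheme := by
      rw [htop]; exact dim_top _
    have hsub : Set.range (BMCoh.Hom.hom (𝟙 Z)) ⊆ (O Finset.univ : Set Z.scheme) := by
      rw [htop]; exact fun _ _ => trivial
    obtain ⟨ψ, hψ⟩ := exists_lift (𝟙 Z) _ hsub hd
    rw [← pull_id T M i n a, ← hψ, ← pull_pull, key _ Finset.univ_nonempty hd]
    exact map_zero _

include hdisj in
lemma pull_sum_push [Fintype ι] [∀ k, IsProper (g k).hom] (M : A.Cat) (i n : ℤ)
    (c : ∀ k, T.gp (W k) M i n) (k : ι) :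
    (T.pull (g k) M i n).hom (∑ l, (T.push (g l).hom M i n i n (by rw [relCodim_hom (g l)]; ring)
      (by rw [relCodim_hom (g l)]; ring)).hom (c l)) = c k := by
  rw [map_sum, Finset.sum_eq_single k]
  · exact pull_push_self T (g k) M i n _ _ _
  · exact fun l _ hl => pull_push_disjoint T (g k) (g l) (hdisj hl.symm) M i n _ _ _
  · simp

include hdisj in
lemma sum_push_pull [Fintype ι] [∀ k, IsProper (g k).hom]
    (hcov : ⋃ k, Set.range (g k).hom = Set.univ) (M : A.Cat) (i n : ℤ) (a : T.gp Z M i n) :
    ∑ l, (T.push (g l).hom M i n i n (by rw [relCodim_hom (g l)]; ring)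
      (by rw [relCodim_hom (g l)]; ring)).hom ((T.pull (g l) M i n).hom a) = a := by
  refine sub_eq_zero.mp (eq_zero_of_pull_family T g hdisj hcov M i n _ fun k => ?_)
  rw [map_sub, sub_eq_zero]
  exact pull_sum_push T g hdisj M i n (fun l => (T.pull (g l) M i n).hom a) k

end Family

end Groth.Agent.BMCoh
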