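import Groth.Agent.BMCoh.Exact

set_option autoImplicit false
set_option linter.unusedSectionVars false
universe u

open AlgebraicGeometry CategoryTheory CategoryTheory.Limits Opposite TopologicalSpace Topology BMCoh

noncomputable section

namespace Groth.Agent.BMCoh

variable {V : ObjectProperty Scheme.{u}} [IsConstructible V] {R : Type u} [CommRing R] {A : Coefs R}
  {T : PreTheory V R A} {X Z : Obj V}

lemma pull_bijective_of_isIso (T : PreTheory V R A) (f : Z ⟶ X) [IsIso f.hom] (M : A.Cat)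
    (i n : ℤ) : Function.Bijective (T.pull f M i n).hom := by
  let ψ : X ⟶ Z := ⟨inv f.hom, inferInstance, f.dim_eq.symm⟩
  have h₁ : ψ ≫ f = 𝟙 X := BMCoh.Hom.ext (IsIso.inv_hom_id f.hom)
  have h₂ : f ≫ ψ = 𝟙 Z := BMCoh.Hom.ext (IsIso.hom_inv_id f.hom)
  refine Function.bijective_iff_has_inverse.mpr ⟨(T.pull ψ M i n).hom, fun a => ?_, fun a => ?_⟩
  · rw [pull_pull, h₁]
    exact pull_id T M i n a
  · rw [pull_pull, h₂]
    exact pull_id T M i n a

instance isIso_resTop_hom (X : Obj V) : IsIso X.resTop.hom :=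
  inferInstanceAs (IsIso X.scheme.topIso.hom)

variable (i : Z.scheme ⟶ X.scheme) [IsClosedImmersion i]

lemma pdim_closedImm (z : Z.scheme) :
    WeilCoh.pdim X.scheme (i z) = WeilCoh.pdim Z.scheme z := by
  have e : closure ({i z} : Set X.scheme) = i '' closure {z} := by
    rw [← i.isClosedEmbedding.closure_image_eq, Set.image_singleton]
  have h := ((i.isEmbedding.homeomorphImage (closure {z})).trans
    (Homeomorph.setCongr e.symm)).isHomeomorph.topologicalKrullDim_eq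
  exact (congrArg (fun a : WithBot ℕ∞ => (a.unbotD 0).toNat) h).symm

/-- The restriction of a closed immersion over an open. -/
abbrev subMor (O : X.scheme.Opens) : (Z.res (i ⁻¹ᵁ O)).scheme ⟶ (X.res O).scheme := i ∣_ O

instance isClosedImmersion_subMor (O : X.scheme.Opens) : IsClosedImmersion (subMor i O) :=
  IsZariskiLocalAtTarget.restrict (P := @IsClosedImmersion) inferInstance O

/-- The decomposition of an open into the trace of a closed subscheme and the rest. -/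
def subDecomp (O U : X.scheme.Opens) (h : (O : Set X.scheme) ∩ (Set.range i)ᶜ = U)
    (hd : WeilCoh.dim U.toScheme = WeilCoh.dim O.toScheme) : Decomp (X.res O) where
  Z := Z.res (i ⁻¹ᵁ O)
  U := X.res U
  i := subMor i O
  closedImm := isClosedImmersion_subMor i O
  j := X.resLE (fun y hy => (h.ge hy).1) hd
  range_eq := by
    have e₁ : Set.range (subMor i O) = Subtype.val ⁻¹' Set.range i := by
      erw [morphismRestrict_base]
      exact Set.range_restrictPreimage _ _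
    change Set.range (X.scheme.homOfLE (fun y hy => (h.ge hy).1 : U ≤ O)) =
      (Set.range (subMor i O))ᶜ
    rw [e₁]
    ext y
    constructor
    · rintro ⟨z, rfl⟩
      intro hm
      have e : (X.scheme.homOfLE (fun y hy => (h.ge hy).1 : U ≤ O) z).1 = z.1 :=
        Scheme.homOfLE_apply _ _
      exact (h.ge z.2).2 (e ▸ hm)
    · intro hy
      exact ⟨⟨y.1, h.le ⟨y.2, hy⟩⟩, Subtype.ext (Scheme.homOfLE_apply _ _)⟩

lemma subPre_mono {O' O : X.scheme.Opens} (h : O' ≤ O) : i ⁻¹ᵁ O' ≤ i ⁻¹ᵁ O := fun _ hp => h hp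

lemma homOfLE_subMor {O' O : X.scheme.Opens} (h : O' ≤ O) :
    Z.scheme.homOfLE (subPre_mono i h) ≫ subMor i O = subMor i O' ≫ X.scheme.homOfLE h := by
  rw [← cancel_mono O.ι, Category.assoc, morphismRestrict_ι, ← Category.assoc, Scheme.homOfLE_ι,
    Category.assoc, Scheme.homOfLE_ι, morphismRestrict_ι]

lemma isPullback_subMor {O' O : X.scheme.Opens} (h : O' ≤ O) :
    IsPullback (Z.scheme.homOfLE (subPre_mono i h)) (subMor i O') (subMor i O)
      (X.scheme.homOfLE h) := by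
  refine IsPullback.of_right ?_ (homOfLE_subMor i h) (isPullback_morphismRestrict i O).flip
  rw [Scheme.homOfLE_ι, Scheme.homOfLE_ι]
  exact (isPullback_morphismRestrict i O').flip

omit i in
lemma dim_of_dim_eq {j m : ℕ} (hdim : WeilCoh.dim Z.scheme + (j + 1) = WeilCoh.dim X.scheme)
    (z : Z.scheme) (y : X.scheme)
    (h : WeilCoh.pdim X.scheme y = WeilCoh.pdim Z.scheme z) :
    WeilCoh.codim Z.scheme z ≤ m ↔ WeilCoh.codim X.scheme y ≤ j + 1 + m := by
  have := pdim_le_dim Z z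
  simp only [WeilCoh.codim]
  omega

/-- An object on a closed subset of exact dimension containing the complement of `U`. -/
lemma exists_closed_object {j : ℕ} (hj : j + 1 ≤ WeilCoh.dim X.scheme)
    (U : Idx X (ContainsFj X j)) :
    ∃ (Z : Obj V) (i : Z.scheme ⟶ X.scheme) (_ : IsClosedImmersion i) (_ : IsReduced Z.scheme)
      (U₁ : Idx X (ContainsFj X j)), WeilCoh.dim Z.scheme + (j + 1) = WeilCoh.dim X.scheme ∧
      U₁.1 ≤ U.1 ∧ (U₁.1 : Set X.scheme) = (Set.range i)ᶜ := by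
  have : Nonempty X.scheme := by
    by_contra h
    rw [not_nonempty_iff] at h
    have h0 : WeilCoh.dim X.scheme = 0 := natDim_eq_zero_of_isEmpty X.scheme
    omega
  obtain ⟨p, hp⟩ := exists_pdim_eq X (k := WeilCoh.dim X.scheme - (j + 1)) (Nat.sub_le _ _)
  let U₁ := mkIdx X _ (containsFj_inf_compl (x := p) (by simp only [WeilCoh.codim]; omega)
    U.1 U.2.1)
  let C : Set X.scheme := (U₁.1 : Set X.scheme)ᶜ
  let I : X.scheme.IdealSheafData :=
    Scheme.IdealSheafData.vanishingIdeal (X := X.scheme) ⟨C, U₁.1.2.isClosed_compl⟩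
  let Z : Obj V := ⟨I.subscheme, IsConstructible.of_isClosedImmersion I.subschemeι
    (h := inferInstance) X.mem⟩
  have hrange : Set.range I.subschemeι = C :=
    (Scheme.IdealSheafData.range_subschemeι _).trans
      (Scheme.IdealSheafData.coe_support_vanishingIdeal _)
  have : IsClosedImmersion (X := Z.scheme) I.subschemeι :=
    inferInstanceAs (IsClosedImmersion I.subschemeι)
  refine ⟨Z, I.subschemeι, this, isReduced_vanishingIdeal_subscheme _, U₁, ?_, inf_le_left,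
    (compl_eq_comm.mp hrange.symm).symm⟩
  obtain ⟨zp, hzp⟩ : p ∈ Set.range I.subschemeι := by
    rw [hrange]
    exact fun h => h.2 (subset_closure rfl)
  have : Nonempty Z.scheme := ⟨zp⟩
  obtain ⟨z, hz⟩ := exists_pdim_eq Z le_rfl
  have h₁ := pdim_le_dim Z zp
  have h₂ := pdim_closedImm (X := X) (Z := Z) I.subschemeι z
  have h₃ := pdim_closedImm (X := X) (Z := Z) I.subschemeι zp
  rw [hzp] at h₃
  have h₄ : ¬ WeilCoh.codim X.scheme (I.subschemeι z) ≤ j := fun h =>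
    (hrange.le ⟨z, rfl⟩) (U₁.2.1 _ h)
  simp only [WeilCoh.codim] at h₄
  have := pdim_le_dim X (I.subschemeι z)
  omega

lemma fjRes_bijective_closed (T : PreTheory V R A) (X : Obj V) (M : A.Cat) (j m : ℕ) (i n : ℤ)
    (hZ : ∀ (Z : Obj V) (ι : Z.scheme ⟶ X.scheme) [IsClosedImmersion ι] [IsReduced Z.scheme],
      WeilCoh.dim Z.scheme + (j + 1) = WeilCoh.dim X.scheme →
      IsZero (T.fjGp Z m M (i - 2 * ((j : ℤ) + 1)) (n - ((j : ℤ) + 1))) ∧
        IsZero (T.fjGp Z m M (i + 1 - 2 * ((j : ℤ) + 1)) (n - ((j : ℤ) + 1)))) :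
    Function.Bijective
      ((T.fjRes X ((Nat.le_succ j).trans (Nat.le_add_right (j + 1) m)) i n).app M).hom := by
  by_cases hj : j + 1 ≤ WeilCoh.dim X.scheme
  swap
  · have hall : ∀ U : X.scheme.Opens, ContainsFj X j U → ContainsFj X (j + 1 + m) U := by
      refine fun U hU y _ => hU y ?_
      simp only [WeilCoh.codim]
      omega
    refine ⟨(injective_iff_map_eq_zero _).mpr fun a ha => ?_, fun a => ?_⟩
    · obtain ⟨O, b, rfl⟩ := exists_rep T M i n (dir_fj X _) a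
      rw [cls_map] at ha
      obtain ⟨U, hU, hb⟩ := exists_pull_eq_zero T M i n (dir_fj X j) ha
      rw [← cls_pull T M i n (U := ⟨U.1, hall _ U.2.1, U.2.2⟩) (U' := O) hU
        (U.2.2.trans O.2.2.symm) b]
      exact (congrArg _ hb).trans (map_zero _)
    · obtain ⟨U, b, rfl⟩ := exists_rep T M i n (dir_fj X _) a
      exact ⟨cls T M i n (⟨U.1, hall _ U.2.1, U.2.2⟩ : Idx X (ContainsFj X (j + 1 + m))) b,
        cls_map T M i n (containsFj_mono X ((Nat.le_succ j).trans (Nat.le_add_right (j + 1) m)))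
          (⟨U.1, hall _ U.2.1, U.2.2⟩ : Idx X (ContainsFj X (j + 1 + m))) b⟩
  refine ⟨(injective_iff_map_eq_zero _).mpr fun a ha => ?_, fun a => ?_⟩
  · obtain ⟨O, b, rfl⟩ := exists_rep T M i n (dir_fj X _) a
    rw [cls_map] at ha
    obtain ⟨U, hU, hb⟩ := exists_pull_eq_zero T M i n (dir_fj X j) ha
    obtain ⟨Z, ι, _, _, U₁, hdim, hU₁, hrg⟩ := exists_closed_object hj U
    have := ModuleCat.subsingleton_of_isZero (hZ Z ι hdim).1
    have hd : WeilCoh.dim U₁.1.toScheme = WeilCoh.dim O.1.toScheme := U₁.2.2.trans O.2.2.symm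
    have hh : (O.1 : Set X.scheme) ∩ (Set.range ι)ᶜ = U₁.1 := by
      rw [← hrg]
      exact Set.inter_eq_right.mpr fun y hy => hU (hU₁ hy)
    have hpre : ∀ O : Idx X (ContainsFj X (j + 1 + m)), ContainsFj Z m (ι ⁻¹ᵁ O.1) :=
      fun O z hz => O.2.1 _ ((dim_of_dim_eq hdim z (ι z) (pdim_closedImm ι z)).mp hz)
    have hidx : ∀ O : Idx X (ContainsFj X (j + 1 + m)),
        relCodim (Z.res (ι ⁻¹ᵁ O.1)).scheme (X.res O.1).scheme = ((j + 1 : ℕ) : ℤ) := by
      intro O
      change (WeilCoh.dim O.1.toScheme : ℤ) - (WeilCoh.dim (ι ⁻¹ᵁ O.1).toScheme : ℤ) = _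
      rw [O.2.2, (mkIdx Z _ (hpre O)).2.2]
      omega
    obtain ⟨e, he⟩ := exists_of_pull_j_eq_zero T (subDecomp ι O.1 U₁.1 hh hd) M i n
      (i - 2 * ((j : ℤ) + 1)) (n - ((j : ℤ) + 1))
      (by change i = _ + 2 * relCodim (Z.res (ι ⁻¹ᵁ O.1)).scheme (X.res O.1).scheme
          rw [hidx]; push_cast; ring)
      (by change n = _ + relCodim (Z.res (ι ⁻¹ᵁ O.1)).scheme (X.res O.1).scheme
          rw [hidx]; push_cast; ring) b
      (by
        change (T.pull (X.resLE _ hd) M i n).hom b = 0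
        rw [← pull_resLE_resLE T X hU₁ hU (U₁.2.2.trans U.2.2.symm) (U.2.2.trans O.2.2.symm) M i n b]
        exact (congrArg _ hb).trans (map_zero _))
    obtain ⟨W, hW, hW0⟩ := exists_pull_eq_zero T M _ _ (dir_fj Z m)
      (U := mkIdx Z (ι ⁻¹ᵁ O.1) (hpre O)) (b := e) (Subsingleton.elim _ _)
    let E : X.scheme.Opens :=
      ⟨(ι '' (W.1 : Set Z.scheme)ᶜ)ᶜ, (ι.isClosedEmbedding.isClosedMap _
        W.1.2.isClosed_compl).isOpen_compl⟩
    let O' := mkIdx X (O.1 ⊓ E) (fun y hy => ⟨O.2.1 y hy, fun ⟨z, hzW, hzy⟩ => hzW (W.2.1 z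
      ((dim_of_dim_eq hdim z y (hzy ▸ pdim_closedImm ι z)).mpr hy))⟩)
    have hle : O'.1 ≤ O.1 := inf_le_left
    have hWle : ι ⁻¹ᵁ O'.1 ≤ W.1 := fun z hz => by
      by_contra hzW
      exact hz.2 ⟨z, hzW, rfl⟩
    rw [← cls_pull T M i n (U := O') (U' := O) hle (O'.2.2.trans O.2.2.symm) b, ← he]
    have hdW : WeilCoh.dim (ι ⁻¹ᵁ O'.1).toScheme = WeilCoh.dim (ι ⁻¹ᵁ O.1).toScheme :=
      (mkIdx Z _ (hpre O')).2.2.trans (mkIdx Z _ (hpre O)).2.2.symm
    have key := congr($(T.push_pull (subMor ι O.1) (subMor ι O'.1)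
      (X.resLE hle (O'.2.2.trans O.2.2.symm)) (Z.resLE (subPre_mono ι hle) hdW)
      (isPullback_subMor ι hle) M (i - 2 * ((j : ℤ) + 1)) (n - ((j : ℤ) + 1)) i n
      (by rw [hidx]; push_cast; ring) (by rw [hidx]; push_cast; ring)
      (by rw [hidx]; push_cast; ring) (by rw [hidx]; push_cast; ring)).hom e)
    refine (congrArg _ key).trans ?_
    have e0 : (T.pull (Z.resLE (subPre_mono ι hle) hdW) M (i - 2 * ((j : ℤ) + 1))
        (n - ((j : ℤ) + 1))).hom e = 0 :=
      (pull_resLE_resLE T Z hWle hW ((mkIdx Z _ (hpre O')).2.2.trans W.2.2.symm)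
        (W.2.2.trans (mkIdx Z _ (hpre O)).2.2.symm) M _ _ e).symm.trans
        ((congrArg _ hW0).trans (map_zero _))
    change cls T M i n O' ((T.push (subMor ι O'.1) M _ _ i n _ _).hom _) = 0
    erw [e0, map_zero]
    exact map_zero _
  · obtain ⟨U, b, rfl⟩ := exists_rep T M i n (dir_fj X j) a
    obtain ⟨Z, ι, _, _, U₁, hdim, hU₁, hrg⟩ := exists_closed_object hj U
    have := ModuleCat.subsingleton_of_isZero (hZ Z ι hdim).2
    let b₁ := (T.pull (X.resLE hU₁ (U₁.2.2.trans U.2.2.symm)) M i n).hom b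
    let Top := mkIdx X (j := j + 1 + m) ⊤ fun _ _ => trivial
    have hpre : ∀ O : Idx X (ContainsFj X (j + 1 + m)), ContainsFj Z m (ι ⁻¹ᵁ O.1) :=
      fun O z hz => O.2.1 _ ((dim_of_dim_eq hdim z (ι z) (pdim_closedImm ι z)).mp hz)
    have hh : ∀ O : Idx X (ContainsFj X (j + 1 + m)), U₁.1 ≤ O.1 →
        (O.1 : Set X.scheme) ∩ (Set.range ι)ᶜ = U₁.1 := by
      intro O hO
      rw [← hrg]
      exact Set.inter_eq_right.mpr hO
    have hidx : ∀ (O : Idx X (ContainsFj X (j + 1 + m))) (hO : U₁.1 ≤ O.1),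
        i + 1 - 2 * ((j : ℤ) + 1) =
          i + 1 - 2 * (subDecomp ι O.1 U₁.1 (hh O hO) (U₁.2.2.trans O.2.2.symm)).codim ∧
        n - ((j : ℤ) + 1) =
          n - (subDecomp ι O.1 U₁.1 (hh O hO) (U₁.2.2.trans O.2.2.symm)).codim := by
      intro O hO
      have : (subDecomp ι O.1 U₁.1 (hh O hO) (U₁.2.2.trans O.2.2.symm)).codim =
          ((j + 1 : ℕ) : ℤ) := by
        change (WeilCoh.dim O.1.toScheme : ℤ) - (WeilCoh.dim (ι ⁻¹ᵁ O.1).toScheme : ℤ) = _
        rw [O.2.2, (mkIdx Z _ (hpre O)).2.2]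
        omega
      rw [this]
      push_cast
      exact ⟨rfl, rfl⟩
    let D := subDecomp ι Top.1 U₁.1 (hh Top le_top) (U₁.2.2.trans Top.2.2.symm)
    obtain ⟨W, hW, hW0⟩ := exists_pull_eq_zero T M _ _ (dir_fj Z m)
      (U := mkIdx Z (ι ⁻¹ᵁ Top.1) (hpre Top))
      (b := (T.res D M i n (i + 1 - 2 * ((j : ℤ) + 1)) (n - ((j : ℤ) + 1)) (hidx Top le_top).1
        (hidx Top le_top).2).hom b₁) (Subsingleton.elim _ _)
    let E : X.scheme.Opens :=
      ⟨(ι '' (W.1 : Set Z.scheme)ᶜ)ᶜ, (ι.isClosedEmbedding.isClosedMap _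
        W.1.2.isClosed_compl).isOpen_compl⟩
    let O := mkIdx X E (fun y hy ⟨z, hzW, hzy⟩ => hzW (W.2.1 z
      ((dim_of_dim_eq hdim z y (hzy ▸ pdim_closedImm ι z)).mpr hy)))
    have hO : U₁.1 ≤ O.1 := fun y hy ⟨z, _, hzy⟩ => (hrg.le hy) ⟨z, hzy⟩
    have hWle : ι ⁻¹ᵁ O.1 ≤ W.1 := fun z hz => by
      by_contra hzW
      exact hz ⟨z, hzW, rfl⟩
    have hdO : WeilCoh.dim O.1.toScheme = WeilCoh.dim Top.1.toScheme := O.2.2.trans Top.2.2.symm
    let D' := subDecomp ι O.1 U₁.1 (hh O hO) (U₁.2.2.trans O.2.2.symm)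
    have hdW : WeilCoh.dim (ι ⁻¹ᵁ O.1).toScheme = WeilCoh.dim (ι ⁻¹ᵁ Top.1).toScheme :=
      (mkIdx Z _ (hpre O)).2.2.trans (mkIdx Z _ (hpre Top)).2.2.symm
    have key := congr($(T.res_pull D D' (X.resLE le_top hdO)
      (Z.resLE (subPre_mono ι le_top) hdW) (𝟙 (X.res U₁.1)) (homOfLE_subMor ι le_top)
      ((Category.id_comp _).trans (resLE_comp X hO le_top (U₁.2.2.trans O.2.2.symm) hdO).symm)
      M i n _ _ (hidx Top le_top).1 (hidx Top le_top).2 (hidx O hO).1 (hidx O hO).2).hom b₁)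
    obtain ⟨a', ha'⟩ := exists_of_res_eq_zero T D' M i n _ _ (hidx O hO).1 (hidx O hO).2 b₁ (by
      refine ((congrArg _ (pull_id T (X := X.res U₁.1) M i n b₁)).symm.trans key.symm).trans ?_
      exact (pull_resLE_resLE T Z hWle hW ((mkIdx Z _ (hpre O)).2.2.trans W.2.2.symm)
        (W.2.2.trans (mkIdx Z _ (hpre Top)).2.2.symm) M _ _ _).symm.trans
        ((congrArg _ hW0).trans (map_zero _)))
    refine ⟨cls T M i n O a', ?_⟩
    rw [cls_map, ← cls_pull T M i n hU₁ (U₁.2.2.trans U.2.2.symm) b]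
    have hmono := containsFj_mono X ((Nat.le_succ j).trans (Nat.le_add_right (j + 1) m))
    refine (cls_pull T M i n (U := U₁)
      (U' := (⟨O.1, hmono _ O.2.1, O.2.2⟩ : Idx X (ContainsFj X j))) hO
      (U₁.2.2.trans O.2.2.symm) a').symm.trans ?_
    exact congrArg (cls T M i n U₁) ha' 

end Groth.Agent.BMCoh
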