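import Groth.Agent.BMCoh.Loops

set_option autoImplicit false
set_option linter.unusedSectionVars false
universe u

open AlgebraicGeometry CategoryTheory CategoryTheory.Limits Opposite TopologicalSpace Topology BMCoh

noncomputable section

namespace Groth.Agent.BMCoh

variable {V : ObjectProperty Scheme.{u}} [IsConstructible V] {R : Type u} [CommRing R] {A : Coefs R}
  {T : PreTheory V R A} {X : Obj V}

/-- Lifting to `F_{j+1}` when all residues die. -/
lemma exists_fjRes_eq {j : ℕ} (M : A.Cat) (i n : ℤ) (a : T.fjGp X j M i n)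
    (h : ∀ (U : Idx X (ContainsFj X j)) (b : T.gp (X.res U.1) M i n), cls T M i n U b = a →
      ∀ (x : X.cdPt (j + 1)) (Y : X.scheme.Opens) (hx : x.1 ∈ Y)
        (hY : (Y : Set X.scheme) ∩ (closure {x.1})ᶜ = U.1)
        (hd : WeilCoh.dim U.1.toScheme = WeilCoh.dim Y.toScheme) (i' n' : ℤ)
        (_ : i' = i + 1 - 2 * ((j : ℤ) + 1)) (_ : n' = n - ((j : ℤ) + 1))
        (hi₁ : i' = i + 1 - 2 * (ptDecomp X x.1 Y U.1 hY hd).codim)
        (hn₁ : n' = n - (ptDecomp X x.1 Y U.1 hY hd).codim),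
        cls T M i' n' (mkPtIdx X (ptPre X x.1 Y) (ptPre_nonempty X hx))
          ((T.res (ptDecomp X x.1 Y U.1 hY hd) M i n i' n' hi₁ hn₁).hom b) = 0) :
    ∃ a', ((T.fjRes X (Nat.le_succ j) i n).app M).hom a' = a := by
  obtain ⟨U₀, b₀, rfl⟩ := exists_rep T M i n (dir_fj X j) a
  obtain ⟨U, hU, hS, b, hb⟩ := exists_extension_set
    {x : X.scheme | WeilCoh.codim X.scheme x = j + 1} M i n (hmax_codim (X := X)) U₀ b₀ (by
      intro U hU b hb x hxS c hc Y hxY hY hd i' n' hi hn hi₁ hn₁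
      have hxj : WeilCoh.codim X.scheme x = j + 1 := hxS
      obtain rfl : c = j + 1 := hc.symm.trans hxj
      refine h U b ?_ ⟨x, hxj⟩ Y hxY hY hd i' n' (by push_cast at hi; exact hi)
        (by push_cast at hn; exact hn) hi₁ hn₁
      rw [← hb]
      exact (cls_pull T M i n hU _ b).symm)
  refine ⟨cls T M i n (mkIdx X U.1 (containsFj_succ U.2.1 hS)) b, ?_⟩
  rw [cls_map, ← hb]
  exact (cls_pull T M i n hU _ b).symm

lemma exact_fjRes_tot (T : PreTheory V R A) (X : Obj V) (j : ℕ) (Q : T.ResData X j) (M : A.Cat)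
    (i n i' n' : ℤ) (hi : i' = i + 1 - 2 * ((j : ℤ) + 1)) (hn : n' = n - ((j : ℤ) + 1)) :
    Function.Exact ((T.fjRes X (Nat.le_succ j) i n).app M).hom (Q.tot M i n i' n' hi hn).hom := by
  intro a
  constructor
  · intro ha
    refine exists_fjRes_eq M i n a fun U b hb x Y hx hY hd i₁ n₁ hi₁ hn₁ hi₂ hn₂ => ?_
    obtain rfl : i₁ = i' := hi₁.trans hi.symm
    obtain rfl : n₁ = n' := hn₁.trans hn.symm
    rw [← resData_cpt_eq Q x hx hY hd M i n i₁ n₁ hi hn hi₂ hn₂ b, hb,
      ← PreTheory.ResData.tot_apply, ha]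
    rfl
  · rintro ⟨a', rfl⟩
    obtain ⟨U, b, rfl⟩ := exists_rep T M i n (dir_fj X (j + 1)) a'
    rw [cls_map]
    refine DFinsupp.ext fun x => ?_
    exact resData_cpt_eq_zero Q x ⟨U.1, containsFj_mono X (Nat.le_succ j) _ U.2.1, U.2.2⟩
      (U.2.1 _ x.2.le) M i n i' n' hi hn b

/-- The push-forward of a point dies on restriction to `F_j`. -/
lemma fjRes_pushData {j : ℕ} (P : T.PushData X (j + 1)) (x : X.cdPt (j + 1)) (M : A.Cat)
    (i n i' n' : ℤ) (hi : i' = i + 2 * ((j + 1 : ℕ) : ℤ)) (hn : n' = n + ((j + 1 : ℕ) : ℤ))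
    (a : T.ptGp X x.1 M i n) :
    ((T.fjRes X (Nat.le_succ j) i' n').app M).hom ((P.cpt x M i n i' n' hi hn).hom a) = 0 := by
  have := nonempty_ptIdx X x.1
  obtain ⟨W, b, rfl⟩ := exists_rep T M i n (dir_pt X x.1) a
  obtain ⟨O, hxO, hO, -, hOW⟩ := exists_ptPre_eq X x.1 W.1 W.2.1
  let U := mkIdx X O (by rw [x.2] at hO; exact hO)
  rw [← cls_pull T M i n (U := mkPtIdx X (ptPre X x.1 U.1) (ptPre_nonempty X (U.2.1 _ x.2.le)))
    (U' := W) hOW.le ((dim_ptSub_open X x.1 _ (ptPre_nonempty X hxO)).trans W.2.2.symm) b]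
  have hr := relCodim_pt X x.1 x.2 hxO U.2.2
  rw [pushData_cpt_eq P x U M i n i' n' hi hn (by rw [hr]; exact hi) (by rw [hr]; exact hn)]
  erw [cls_map]
  let U₀ := mkIdx X _ (containsFj_inf_compl (x := x.1) (by rw [x.2]; omega) O
    (containsFj_mono X (Nat.le_succ j) _ U.2.1))
  have hd : WeilCoh.dim U₀.1.toScheme = WeilCoh.dim O.toScheme := U₀.2.2.trans U.2.2.symm
  rw [← cls_pull T M i' n' (U := U₀) (U' := ⟨U.1, containsFj_mono X (Nat.le_succ j) _ U.2.1, U.2.2⟩)
    (inf_le_left : U₀.1 ≤ O) hd]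
  exact (congrArg _ (pull_j_push T (ptDecomp X x.1 O U₀.1 (inf_compl_inter x.1 O) hd) M i' n' i n
    (hi.trans (congrArg (fun t => i + 2 * t) hr.symm))
    (hn.trans (congrArg (fun t => n + t) hr.symm)) _)).trans (map_zero _)

lemma exact_tot_fjRes (T : PreTheory V R A) (X : Obj V) (j : ℕ) (P : T.PushData X (j + 1))
    (M : A.Cat) (i n i' n' : ℤ) (hi : i' = i + 2 * ((j + 1 : ℕ) : ℤ))
    (hn : n' = n + ((j + 1 : ℕ) : ℤ)) :
    Function.Exact (P.tot M i n i' n' hi hn).hom
      ((T.fjRes X (Nat.le_succ j) i' n').app M).hom := by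
  classical
  intro a
  constructor
  · intro ha
    have := noetherianSpace X
    obtain ⟨O, b, rfl⟩ := exists_rep T M i' n' (dir_fj X (j + 1)) a
    rw [cls_map] at ha
    obtain ⟨U₀, h₀, hb₀⟩ := exists_pull_eq_zero T M i' n' (dir_fj X j) ha
    suffices key : ∀ (U : X.scheme.Opens) (hU : ContainsFj X j U) (O : Idx X (ContainsFj X (j + 1)))
        (hUO : U ≤ O.1) (b : T.gp (X.res O.1) M i' n'),
        (T.pull (X.resLE hUO ((mkIdx X U hU).2.2.trans O.2.2.symm)) M i' n').hom b = 0 →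
        cls T M i' n' O b ∈ LinearMap.range (P.tot M i n i' n' hi hn).hom from
      LinearMap.mem_range.mp (key U₀.1 U₀.2.1 O h₀ b hb₀)
    intro U
    induction U using WellFoundedGT.induction with
    | _ U ih =>
      intro hU O hUO b hb
      by_cases hS : {x : X.scheme | WeilCoh.codim X.scheme x = j + 1} ⊆ (U : Set X.scheme)
      · let U' := mkIdx X U (containsFj_succ hU hS)
        rw [← cls_pull T M i' n' (U := U') (U' := O) hUO (U'.2.2.trans O.2.2.symm)]
        rw [hb]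
        have e0 : cls T M i' n' U' 0 = 0 := map_zero _
        rw [e0]
        exact Submodule.zero_mem _
      obtain ⟨x, hxS, hx⟩ := hmax_codim (mkIdx X U hU) hS
      let x' : X.cdPt (j + 1) := ⟨x, hxS⟩
      obtain ⟨Y, hUY, hYO, hxY, hY⟩ := exists_step X x hUO (O.2.1 x (le_of_eq hxS)) hx
      let Y' := mkIdx X Y fun y hy => hUY (hU y hy)
      have hd : WeilCoh.dim U.toScheme = WeilCoh.dim Y.toScheme :=
        (mkIdx X U hU).2.2.trans Y'.2.2.symm
      have hdO : WeilCoh.dim Y.toScheme = WeilCoh.dim O.1.toScheme := Y'.2.2.trans O.2.2.symm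
      obtain ⟨e, he⟩ := exists_push_pt T (x := x) hxS M hxY Y'.2.2 hY hd i' n' i n hi hn
        ((T.pull (X.resLE hYO hdO) M i' n').hom b) (by
          rw [pull_resLE_resLE]
          exact hb)
      obtain ⟨W, hxW, hW, hWc, hWY⟩ := exists_ptPre_eq X x (ptPre X x Y) (ptPre_nonempty X hxY)
      have hWj : ContainsFj X (j + 1) W := by
        rw [show WeilCoh.codim X.scheme x = j + 1 from hxS] at hW
        exact hW
      let O' := mkIdx X (O.1 ⊓ W) fun y hy => ⟨O.2.1 y hy, hWj y hy⟩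
      have hxO' : x ∈ O'.1 := O'.2.1 x (le_of_eq hxS)
      have hle : ptPre X x O'.1 ≤ ptPre X x Y := (ptPre_mono X x inf_le_right).trans hWY.le
      have hdP : WeilCoh.dim (ptPre X x O'.1).toScheme = WeilCoh.dim (ptPre X x Y).toScheme :=
        (dim_ptSub_open X x _ (ptPre_nonempty X hxO')).trans
          (dim_ptSub_open X x _ (ptPre_nonempty X hxY)).symm
      let e' := (T.pull ((X.ptSub x).resLE hle hdP) M i n).hom e
      have hr := relCodim_pt X x hxS hxO' O'.2.2
      have hr1 : i' = i + 2 * relCodim ((X.ptSub x).res (ptPre X x O'.1)).scheme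
          (X.res O'.1).scheme := by rw [hr]; exact hi
      have hr2 : n' = n + relCodim ((X.ptSub x).res (ptPre X x O'.1)).scheme
          (X.res O'.1).scheme := by rw [hr]; exact hn
      let p := (T.push (ptMor X x O'.1) M i n i' n' hr1 hr2).hom e'
      let bO := (T.pull (X.resLE (inf_le_left : O'.1 ≤ O.1) (O'.2.2.trans O.2.2.symm)) M i' n').hom b
      have hp : cls T M i' n' O' p ∈ LinearMap.range (P.tot M i n i' n' hi hn).hom :=
        LinearMap.mem_range.mpr ⟨DirectSum.lof R (X.cdPt (j + 1))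
          (fun y : X.cdPt (j + 1) => T.ptGp X y.1 M i n) x'
          (cls T M i n (mkPtIdx X (ptPre X x O'.1) (ptPre_nonempty X hxO')) e'), by
          rw [PreTheory.PushData.tot_lof]
          exact pushData_cpt_eq P x' O' M i n i' n' hi hn hr1 hr2 e'⟩
      have hsplit : cls T M i' n' O b = cls T M i' n' O' (bO - p) + cls T M i' n' O' p := by
        rw [← map_add, sub_add_cancel]
        exact (cls_pull T M i' n' (U := O') inf_le_left _ b).symm
      rw [hsplit]
      refine add_mem ?_ hp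
      have hxN : x ∈ Y ⊓ O'.1 := ⟨hxY, hxO'⟩
      have hUN : U ≤ Y ⊓ O'.1 := le_inf hUY (le_inf hUO fun y hy => hWc (hY.ge hy).2)
      let N := mkIdx X (Y ⊓ O'.1) fun y hy => hUN (hU y hy)
      have hlt : U < Y ⊓ O'.1 := lt_of_le_of_ne hUN fun e => hx.1 (by
        change x ∈ U
        rw [e]
        exact hxN)
      refine ih _ hlt N.2.1 O' inf_le_right (bO - p) ?_
      have hdY : WeilCoh.dim (Y ⊓ O'.1).toScheme = WeilCoh.dim Y.toScheme :=
        N.2.2.trans Y'.2.2.symm
      have hdO' : WeilCoh.dim (Y ⊓ O'.1).toScheme = WeilCoh.dim O'.1.toScheme :=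
        N.2.2.trans O'.2.2.symm
      have hdW : WeilCoh.dim (ptPre X x (Y ⊓ O'.1)).toScheme = WeilCoh.dim (ptPre X x O'.1).toScheme :=
        (dim_ptSub_open X x _ (ptPre_nonempty X hxN)).trans
          (dim_ptSub_open X x _ (ptPre_nonempty X hxO')).symm
      have hdW' : WeilCoh.dim (ptPre X x (Y ⊓ O'.1)).toScheme = WeilCoh.dim (ptPre X x Y).toScheme :=
        (dim_ptSub_open X x _ (ptPre_nonempty X hxN)).trans
          (dim_ptSub_open X x _ (ptPre_nonempty X hxY)).symm
      have hrN := relCodim_pt X x hxS hxN N.2.2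
      have e₁ : (T.pull (X.resLE (inf_le_right : Y ⊓ O'.1 ≤ O'.1) hdO') M i' n').hom bO =
          (T.push (ptMor X x (Y ⊓ O'.1)) M i n i' n' (by rw [hrN]; exact hi)
            (by rw [hrN]; exact hn)).hom ((T.pull ((X.ptSub x).resLE
              (ptPre_mono X x (inf_le_left : Y ⊓ O'.1 ≤ Y)) hdW') M i n).hom e) := by
        rw [← pull_push_pt T X x inf_le_left hdY hdW' M i n i' n'
          (by rw [relCodim_pt X x hxS hxY Y'.2.2]; exact hi)
          (by rw [relCodim_pt X x hxS hxY Y'.2.2]; exact hn), he]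
        rw [pull_resLE_resLE, pull_resLE_resLE]
      have e₂ := pull_push_pt T X x (inf_le_right : Y ⊓ O'.1 ≤ O'.1) hdO' hdW M i n i' n' hr1 hr2
        (by rw [hrN]; exact hi) (by rw [hrN]; exact hn) e'
      have e₃ := pull_resLE_resLE T (X.ptSub x) (ptPre_mono X x (inf_le_right : Y ⊓ O'.1 ≤ O'.1))
        hle hdW hdP M i n e
      rw [map_sub, sub_eq_zero, e₁, e₂]
      exact congrArg _ e₃.symm
  · rintro ⟨z, rfl⟩
    have : ((T.fjRes X (Nat.le_succ j) i' n').app M).hom.comp (P.tot M i n i' n' hi hn).hom = 0 := by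
      refine DirectSum.linearMap_ext R fun x => LinearMap.ext fun c => ?_
      change ((T.fjRes X (Nat.le_succ j) i' n').app M).hom ((P.tot M i n i' n' hi hn).hom _) = 0
      rw [PreTheory.PushData.tot_lof]
      exact fjRes_pushData P x M i n i' n' hi hn c
    exact congr($this z)

lemma fjRes_injective (T : PreTheory V R A) (X : Obj V) (M : A.Cat) (j : ℕ) (i n : ℤ)
    (h0 : ∀ x : X.scheme, WeilCoh.codim X.scheme x = j + 1 →
      IsZero (T.ptGp X x M (i - 2 * ((j : ℤ) + 1)) (n - ((j : ℤ) + 1)))) :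
    Function.Injective ((T.fjRes X (Nat.le_succ j) i n).app M).hom := by
  refine (injective_iff_map_eq_zero _).mpr fun a ha => ?_
  obtain ⟨O, b, rfl⟩ := exists_rep T M i n (dir_fj X (j + 1)) a
  rw [cls_map] at ha
  obtain ⟨U₀, h₀, hb₀⟩ := exists_pull_eq_zero T M i n (dir_fj X j) ha
  obtain ⟨U, hU, -, hS, hb⟩ := exists_vanishing_set
    {x : X.scheme | WeilCoh.codim X.scheme x = j + 1} M i n (hmax_codim (X := X))
    (fun x hx c hc => by
      have hxj : WeilCoh.codim X.scheme x = j + 1 := hx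
      obtain rfl : c = j + 1 := hc.symm.trans hxj
      push_cast
      exact h0 x hxj)
    ⟨O.1, containsFj_mono X (Nat.le_succ j) _ O.2.1, O.2.2⟩ (fun x hx => O.2.1 x (le_of_eq hx))
    b U₀ h₀ hb₀
  rw [← cls_pull T M i n (U := ⟨U.1, containsFj_succ U.2.1 hS, U.2.2⟩) (U' := O) hU
    (U.2.2.trans O.2.2.symm) b]
  erw [hb]
  exact map_zero _

lemma fjRes_bijective (T : PreTheory V R A) (X : Obj V) (M : A.Cat) (j : ℕ) (i n : ℤ)
    (h0 : ∀ x : X.scheme, WeilCoh.codim X.scheme x = j + 1 →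
      IsZero (T.ptGp X x M (i - 2 * ((j : ℤ) + 1)) (n - ((j : ℤ) + 1))))
    (h1 : ∀ x : X.scheme, WeilCoh.codim X.scheme x = j + 1 →
      IsZero (T.ptGp X x M (i + 1 - 2 * ((j : ℤ) + 1)) (n - ((j : ℤ) + 1)))) :
    Function.Bijective ((T.fjRes X (Nat.le_succ j) i n).app M).hom := by
  refine ⟨fjRes_injective T X M j i n h0, fun a => ?_⟩
  · refine exists_fjRes_eq M i n a fun U b _ x Y hx hY hd i' n' hi hn hi₁ hn₁ => ?_
    subst hi hn
    have := ModuleCat.subsingleton_of_isZero (h1 x.1 x.2)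
    exact Subsingleton.elim _ _

/-- Classes on any open containing `F_j` are global classes when the groups of the remaining
points vanish. -/
lemma pull_open_bijective (T : PreTheory V R A) (X : Obj V) (M : A.Cat) (j : ℕ) (i n : ℤ)
    (h0 : ∀ x : X.scheme, j < WeilCoh.codim X.scheme x → ∀ n',
      IsZero (T.ptGp X x M (i - 2 * (WeilCoh.codim X.scheme x : ℤ)) n'))
    (h1 : ∀ x : X.scheme, j < WeilCoh.codim X.scheme x → ∀ n',
      IsZero (T.ptGp X x M (i + 1 - 2 * (WeilCoh.codim X.scheme x : ℤ)) n'))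
    (U₀ : Idx X (ContainsFj X j)) :
    Function.Bijective (T.pull (X.resLE (le_top : U₀.1 ≤ ⊤)
      (U₀.2.2.trans (dim_top X.scheme).symm)) M i n).hom := by
  refine ⟨(injective_iff_map_eq_zero _).mpr fun b hb => ?_, fun b₀ => ?_⟩
  · obtain ⟨U, hU, -, hS, hb'⟩ := exists_vanishing_set
      {x : X.scheme | j < WeilCoh.codim X.scheme x} M i n (hmax_gt (X := X))
      (fun x hx c hc => by subst hc; exact h0 x hx _)
      (mkIdx X ⊤ fun _ _ => trivial) (fun _ _ => trivial) b U₀ le_top hb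
    obtain ⟨U, hUj, hUd⟩ := U
    obtain rfl := eq_top_of_gt hUj hS
    rw [resLE_rfl] at hb'
    rw [← pull_id T M i n b]
    exact hb'
  · obtain ⟨U, hU, hS, b, hb⟩ := exists_extension_set
      {x : X.scheme | j < WeilCoh.codim X.scheme x} M i n (hmax_gt (X := X)) U₀ b₀ (by
        intro U hU b _ x hx c hc Y hxY hY hd i' n' hi hn hi₁ hn₁
        subst hc hi
        have := ModuleCat.subsingleton_of_isZero (h1 x hx n')
        exact Subsingleton.elim _ _)
    obtain ⟨U, hUj, hUd⟩ := U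
    obtain rfl := eq_top_of_gt hUj hS
    exact ⟨b, hb⟩

lemma toFj_bijective (T : PreTheory V R A) (X : Obj V) (M : A.Cat) (j : ℕ) (i n : ℤ)
    (h0 : ∀ x : X.scheme, j < WeilCoh.codim X.scheme x → ∀ n',
      IsZero (T.ptGp X x M (i - 2 * (WeilCoh.codim X.scheme x : ℤ)) n'))
    (h1 : ∀ x : X.scheme, j < WeilCoh.codim X.scheme x → ∀ n',
      IsZero (T.ptGp X x M (i + 1 - 2 * (WeilCoh.codim X.scheme x : ℤ)) n')) :
    Function.Bijective ((T.toFj X j i n).app M).hom := by
  have hbot : Function.Bijective (cls T M i n (mkIdx X (j := j) ⊤ fun _ _ => trivial)) := by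
    refine ⟨fun b b' hb => ?_, fun a => ?_⟩
    · obtain ⟨U, h₁, _, e⟩ := exists_pull_eq T M i n (dir_fj X j) hb
      exact (pull_open_bijective T X M j i n h0 h1 U).1 e
    · obtain ⟨U, b, rfl⟩ := exists_rep T M i n (dir_fj X j) a
      obtain ⟨b', rfl⟩ := (pull_open_bijective T X M j i n h0 h1 U).2 b
      exact ⟨b', (cls_pull T M i n (U' := mkIdx X ⊤ fun _ _ => trivial) le_top _ b').symm⟩
  have htop : Function.Bijective (T.pull X.resTop M i n).hom := by
    let ψ : X ⟶ X.res ⊤ := ⟨X.scheme.topIso.inv, inferInstance, (dim_top X.scheme).symm⟩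
    have h₁ : ψ ≫ X.resTop = 𝟙 X := BMCoh.Hom.ext X.scheme.topIso.inv_hom_id
    have h₂ : X.resTop ≫ ψ = 𝟙 (X.res ⊤) := BMCoh.Hom.ext X.scheme.topIso.hom_inv_id
    refine Function.bijective_iff_has_inverse.mpr ⟨(T.pull ψ M i n).hom, fun a => ?_, fun a => ?_⟩
    · rw [pull_pull, h₁]
      exact pull_id T M i n a
    · rw [pull_pull, h₂]
      exact pull_id T M i n a
  exact hbot.comp htop

end Groth.Agent.BMCoh
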