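import Groth.Agent.BMCoh.Clopen

set_option autoImplicit false
set_option linter.unusedSectionVars false
universe u

open AlgebraicGeometry CategoryTheory CategoryTheory.Limits Opposite TopologicalSpace Topology BMCoh

noncomputable section

namespace Groth.Agent.BMCoh

variable {V : ObjectProperty Scheme.{u}} [IsConstructible V] {R : Type u} [CommRing R] {A : Coefs R}
  (T : PreTheory V R A)

lemma push_congr {X Y : Obj V} {f f' : X.scheme ⟶ Y.scheme} [IsProper f] [IsProper f'] (e : f = f')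
    (M : A.Cat) (i n i' n' : ℤ) (hi : i' = i + 2 * relCodim X.scheme Y.scheme)
    (hn : n' = n + relCodim X.scheme Y.scheme) :
    T.push f M i n i' n' hi hn = T.push f' M i n i' n' hi hn := by
  subst e
  rfl

lemma push_push {X Y Z : Obj V} (f : X.scheme ⟶ Y.scheme) (g : Y.scheme ⟶ Z.scheme) [IsProper f]
    [IsProper g] (h : X.scheme ⟶ Z.scheme) [IsProper h] (e : f ≫ g = h) (M : A.Cat)
    (i n i' n' i'' n'' : ℤ)
    (hi : i' = i + 2 * relCodim X.scheme Y.scheme) (hn : n' = n + relCodim X.scheme Y.scheme)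
    (hi' : i'' = i' + 2 * relCodim Y.scheme Z.scheme) (hn' : n'' = n' + relCodim Y.scheme Z.scheme)
    (hi'' : i'' = i + 2 * relCodim X.scheme Z.scheme) (hn'' : n'' = n + relCodim X.scheme Z.scheme)
    (a : T.gp X M i n) :
    (T.push g M i' n' i'' n'' hi' hn').hom ((T.push f M i n i' n' hi hn).hom a) =
      (T.push h M i n i'' n'' hi'' hn'').hom a := by
  rw [← push_congr T e M i n i'' n'' hi'' hn'']
  exact congr($(T.push_comp f g M i n i' n' i'' n'' hi hn hi' hn' hi'' hn'').hom a)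

variable {X : Obj V} {c : ℕ} (S : Finset (X.cdPt c))

/-- The union of the closures of finitely many points. -/
def unionCl : Set X.scheme := ⋃ x ∈ S, closure {x.1}

lemma isClosed_unionCl : IsClosed (unionCl S) :=
  S.finite_toSet.isClosed_biUnion fun _ _ => isClosed_closure

lemma mem_unionCl {y : X.scheme} : y ∈ unionCl S ↔ ∃ x ∈ S, y ∈ closure ({x.1} : Set X.scheme) := by
  simp [unionCl]

lemma eq_of_mem_closure {x y : X.cdPt c} (h : y.1 ∈ closure ({x.1} : Set X.scheme)) : y = x := by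
  by_contra hne
  have := pdim_lt X (specializes_iff_mem_closure.mpr h) fun e => hne (Subtype.ext e.symm)
  have := (codim_eq_iff X _ _).mp x.2
  have := (codim_eq_iff X _ _).mp y.2
  omega

/-- An open containing `F_c` in which the closures of the points of `S` are disjoint. -/
lemma exists_separating : ∃ O : Idx X (ContainsFj X c),
    (unionCl S)ᶜ ⊆ (O.1 : Set X.scheme) ∧
      ∀ x ∈ S, ∀ y ∈ S, x ≠ y →
        (O.1 : Set X.scheme) ∩ (closure {x.1} ∩ closure {y.1}) = ∅ := by
  let B : Set X.scheme := ⋃ p ∈ {p : X.cdPt c × X.cdPt c | p.1 ∈ S ∧ p.2 ∈ S ∧ p.1 ≠ p.2},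
    closure {p.1.1} ∩ closure {p.2.1}
  have hfin : {p : X.cdPt c × X.cdPt c | p.1 ∈ S ∧ p.2 ∈ S ∧ p.1 ≠ p.2}.Finite :=
    (S.finite_toSet.prod S.finite_toSet).subset fun p hp => ⟨hp.1, hp.2.1⟩
  have hB : IsClosed B := hfin.isClosed_biUnion fun _ _ => isClosed_closure.inter isClosed_closure
  refine ⟨mkIdx X ⟨Bᶜ, hB.isOpen_compl⟩ ?_, ?_, ?_⟩
  · intro y hy hyB
    simp only [B, Set.mem_iUnion, Set.mem_ofPred_eq, Set.mem_inter_iff] at hyB
    obtain ⟨⟨p, q⟩, ⟨-, -, hpq⟩, hyp, hyq⟩ := hyB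
    have key : ∀ z : X.cdPt c, y ∈ closure ({z.1} : Set X.scheme) → y = z.1 := by
      intro z hz
      by_contra hne
      have := pdim_lt X (specializes_iff_mem_closure.mpr hz) (Ne.symm hne)
      have := (codim_eq_iff X _ _).mp z.2
      simp only [WeilCoh.codim] at hy
      omega
    exact hpq (Subtype.ext ((key p hyp).symm.trans (key q hyq)))
  · intro y hy hyB
    simp only [B, Set.mem_iUnion, Set.mem_ofPred_eq, Set.mem_inter_iff] at hyB
    obtain ⟨⟨p, q⟩, ⟨hp, -, -⟩, hyp, -⟩ := hyB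
    exact hy ((mem_unionCl S).mpr ⟨p, hp, hyp⟩)
  · intro x hx y hy hxy
    refine Set.eq_empty_of_forall_notMem fun z hz => hz.1 ?_
    exact Set.mem_biUnion (show (x, y) ∈ {p : X.cdPt c × X.cdPt c | p.1 ∈ S ∧ p.2 ∈ S ∧ p.1 ≠ p.2}
      from ⟨hx, hy, hxy⟩) hz.2

/-- The pieces of the closures of the points of `S` in `Ω`, as clopen pieces of `Z`. -/
lemma exists_family (Ω : Idx X (ContainsFj X c))
    (hdisj : ∀ x ∈ S, ∀ y ∈ S, x ≠ y →
      (Ω.1 : Set X.scheme) ∩ (closure {x.1} ∩ closure {y.1}) = ∅)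
    {Z : Obj V} [IsReduced Z.scheme] (i : Z.scheme ⟶ (X.res Ω.1).scheme) [IsClosedImmersion i]
    (hi : Set.range i = Subtype.val ⁻¹' unionCl S) :
    ∃ g : ∀ x : S, (X.ptSub x.1.1).res (ptPre X x.1.1 Ω.1) ⟶ Z,
      (∀ x, IsProper (g x).hom) ∧ (∀ x, (g x).hom ≫ i = ptMor X x.1.1 Ω.1) ∧
      (Pairwise fun x y => Disjoint (Set.range (g x).hom) (Set.range (g y).hom)) ∧
      ⋃ x, Set.range (g x).hom = Set.univ := by
  have hr : ∀ x : S, Set.range (ptMor X x.1.1 Ω.1) = Subtype.val ⁻¹' closure ({x.1.1} : Set X.scheme) := by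
    intro x
    rw [← range_ptSubι]
    erw [morphismRestrict_base]
    exact Set.range_restrictPreimage _ _
  have hex : ∀ x : S, ∃ g : ((X.ptSub x.1.1).res (ptPre X x.1.1 Ω.1)).scheme ⟶ Z.scheme,
      IsClosedImmersion g ∧ g ≫ i = ptMor X x.1.1 Ω.1 := by
    intro x
    have := isReduced_ptSub X x.1.1
    have : IsClosedImmersion (ptMor X x.1.1 Ω.1) := isClosedImmersion_ptSubι_restrict X _ _
    have hsurj : Surjective (pullback.fst (ptMor X x.1.1 Ω.1) i) := by
      refine ⟨Set.range_eq_univ.mp (Set.eq_univ_of_forall fun p => ?_)⟩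
      rw [AlgebraicGeometry.Scheme.Pullback.range_fst]
      change ptMor X x.1.1 Ω.1 p ∈ Set.range i
      rw [hi]
      refine (mem_unionCl S).mpr ⟨x.1, x.2, ?_⟩
      exact (hr x).le ⟨p, rfl⟩
    have : IsClosedImmersion (pullback.fst (ptMor X x.1.1 Ω.1) i) :=
      inferInstance
    have := isIso_of_isClosedImmersion_of_surjective (pullback.fst (ptMor X x.1.1 Ω.1) i)
    let g := inv (pullback.fst (ptMor X x.1.1 Ω.1) i) ≫ pullback.snd _ _
    have hg : g ≫ i = ptMor X x.1.1 Ω.1 := by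
      simp [g, ← pullback.condition]
    have : IsClosedImmersion (g ≫ i) := by rw [hg]; infer_instance
    exact ⟨g, IsClosedImmersion.of_comp g i, hg⟩
  choose g hgc hg using hex
  have hrg : ∀ x : S, Set.range (g x) = (fun z => (i z).1) ⁻¹' closure ({x.1.1} : Set X.scheme) := by
    intro x
    ext z
    constructor
    · rintro ⟨p, rfl⟩
      refine (hr x).le ⟨p, ?_⟩
      rw [← hg x]
      rfl
    · intro hz
      obtain ⟨p, hp⟩ := (hr x).ge hz
      refine ⟨p, i.isEmbedding.injective ?_⟩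
      rw [← hp, ← hg x]
      rfl
  have hpd : Pairwise fun x y : S => Disjoint (Set.range (g x)) (Set.range (g y)) := by
    intro x y hxy
    rw [Set.disjoint_iff_inter_eq_empty, hrg, hrg]
    refine Set.eq_empty_of_forall_notMem fun z hz => ?_
    have := hdisj x.1 x.2 y.1 y.2 fun e => hxy (Subtype.ext e)
    exact this.le ⟨(i z).2, hz⟩
  have hcov : ⋃ x, Set.range (g x) = Set.univ := by
    refine Set.eq_univ_of_forall fun z => ?_
    obtain ⟨x, hx, hzx⟩ := (mem_unionCl S).mp (hi.le ⟨z, rfl⟩)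
    exact Set.mem_iUnion.mpr ⟨⟨x, hx⟩, (hrg ⟨x, hx⟩).ge hzx⟩
  have hopen : ∀ x, IsOpen (Set.range (g x)) := by
    intro x
    have e : Set.range (g x) = (⋃ y ∈ {y : S | y ≠ x}, Set.range (g y))ᶜ := by
      ext z
      constructor
      · intro hz hz'
        obtain ⟨y, hy, hzy⟩ := Set.mem_iUnion₂.mp hz'
        exact (hpd hy).le_bot ⟨hzy, hz⟩
      · intro hz
        obtain ⟨y, hy⟩ := Set.mem_iUnion.mp (hcov.ge (Set.mem_univ z))
        by_cases e : y = x
        · exact e ▸ hy
        · exact absurd (Set.mem_iUnion₂.mpr ⟨y, e, hy⟩) hz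
    rw [e]
    refine (Set.Finite.isClosed_biUnion (Set.toFinite _) fun y _ => ?_).isOpen_compl
    have := hgc y
    exact (g y).isClosedEmbedding.isClosed_range
  have himm : ∀ x, IsOpenImmersion (g x) := by
    intro x
    have := hgc x
    let O : Z.scheme.Opens := ⟨Set.range (g x), hopen x⟩
    let l := IsOpenImmersion.lift O.ι (g x) (by simp [O])
    have hl : l ≫ O.ι = g x := IsOpenImmersion.lift_fac _ _ _
    have : IsClosedImmersion (l ≫ O.ι) := by rw [hl]; infer_instance
    have : IsClosedImmersion l := IsClosedImmersion.of_comp l O.ι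
    have : Surjective l := ⟨fun z => by
      obtain ⟨p, hp⟩ := z.2
      refine ⟨p, Subtype.ext ?_⟩
      rw [← hp, ← hl]
      rfl⟩
    have := isIso_of_isClosedImmersion_of_surjective l
    rw [← hl]
    infer_instance
  have hdimW : ∀ x : S, WeilCoh.dim (ptPre X x.1.1 Ω.1).toScheme + c = WeilCoh.dim X.scheme := by
    intro x
    rw [dim_ptSub_open X _ _ (ptPre_nonempty X (Ω.2.1 _ x.1.2.le)), dim_ptSub]
    exact (codim_eq_iff X _ _).mp x.1.2
  have hdim : ∀ x : S, WeilCoh.dim (ptPre X x.1.1 Ω.1).toScheme = WeilCoh.dim Z.scheme := by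
    intro x
    refine le_antisymm (natDim_le_of_isInducing (g x).isEmbedding.isInducing (finite_dim Z)) ?_
    obtain ⟨p⟩ : Nonempty ((X.ptSub x.1.1).res (ptPre X x.1.1 Ω.1)).scheme :=
      (ptPre_nonempty X (Ω.2.1 _ x.1.2.le)).to_subtype
    have : Nonempty Z.scheme := ⟨g x p⟩
    obtain ⟨z, hz⟩ := exists_pdim_eq Z le_rfl
    obtain ⟨y, hzy⟩ := Set.mem_iUnion.mp (hcov.ge (Set.mem_univ z))
    have := hgc y
    have hsub : closure ({z} : Set Z.scheme) ⊆ Set.range (g y) :=
      closure_minimal (Set.singleton_subset_iff.mpr hzy) (g y).isClosedEmbedding.isClosed_range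
    let e := (g y).isEmbedding.toHomeomorph
    have hind : IsInducing fun p : closure ({z} : Set Z.scheme) => e.symm ⟨p.1, hsub p.2⟩ :=
      e.symm.isEmbedding.isInducing.comp (IsEmbedding.inclusion hsub).isInducing
    have h1 := natDim_le_of_isInducing hind
      (finite_dim ((X.ptSub y.1.1).res (ptPre X y.1.1 Ω.1)))
    have h2 := hdimW x
    have h3 := hdimW y
    change WeilCoh.pdim Z.scheme z ≤ WeilCoh.dim (ptPre X y.1.1 Ω.1).toScheme at h1
    omega
  exact ⟨fun x => ⟨g x, himm x, hdim x⟩, fun x => by have := hgc x; infer_instance, hg, hpd, hcov⟩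

/-- The ideal sheaf of the union of the closures. -/
abbrev famIdeal (Ω : X.scheme.Opens) : Ω.toScheme.IdealSheafData :=
  Scheme.IdealSheafData.vanishingIdeal (X := Ω.toScheme)
    ⟨Ω.ι ⁻¹' unionCl S, (isClosed_unionCl S).preimage Ω.ι.continuous⟩

/-- The reduced union of the closures of the points of `S` inside `Ω`. -/
def famObj (Ω : X.scheme.Opens) : Obj V :=
  ⟨(famIdeal S Ω).subscheme,
    IsConstructible.of_isClosedImmersion (famIdeal S Ω).subschemeι
      (h := inferInstance) (X.res Ω).mem⟩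

/-- The inclusion of `famObj`. -/
def famι (Ω : X.scheme.Opens) : (famObj S Ω).scheme ⟶ (X.res Ω).scheme :=
  (famIdeal S Ω).subschemeι

instance famι_closedImm (Ω : X.scheme.Opens) : IsClosedImmersion (famι S Ω) :=
  inferInstanceAs (IsClosedImmersion (famIdeal S Ω).subschemeι)

lemma isReduced_famObj (Ω : X.scheme.Opens) : IsReduced (famObj S Ω).scheme :=
  isReduced_vanishingIdeal_subscheme _

lemma range_famι (Ω : X.scheme.Opens) :
    Set.range (famι S Ω) = Subtype.val ⁻¹' unionCl S := by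
  exact (Scheme.IdealSheafData.range_subschemeι _).trans
    (Scheme.IdealSheafData.coe_support_vanishingIdeal _)

/-- The decomposition of `Ω` into the union of the closures and the rest. -/
def famDecomp (Ω U : X.scheme.Opens) (h : (Ω : Set X.scheme) ∩ (unionCl S)ᶜ = U)
    (hd : WeilCoh.dim U.toScheme = WeilCoh.dim Ω.toScheme) : Decomp (X.res Ω) where
  Z := famObj S Ω
  U := X.res U
  i := famι S Ω
  closedImm := famι_closedImm S Ω
  j := X.resLE (fun y hy => (h.ge hy).1) hd
  range_eq := by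
    change Set.range (X.scheme.homOfLE (fun y hy => (h.ge hy).1 : U ≤ Ω)) =
      (Set.range (famι S Ω))ᶜ
    rw [range_famι]
    ext y
    constructor
    · rintro ⟨z, rfl⟩
      intro hm
      have e : (X.scheme.homOfLE (fun y hy => (h.ge hy).1 : U ≤ Ω) z).1 = z.1 :=
        Scheme.homOfLE_apply _ _
      exact (h.ge z.2).2 (e ▸ hm)
    · intro hy
      exact ⟨⟨y.1, h.le ⟨y.2, hy⟩⟩, Subtype.ext (Scheme.homOfLE_apply _ _)⟩

lemma relCodim_family {Ω : Idx X (ContainsFj X c)} {Z : Obj V} (x : X.cdPt c)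
    (g : (X.ptSub x.1).res (ptPre X x.1 Ω.1) ⟶ Z) :
    relCodim Z.scheme (X.res Ω.1).scheme = (c : ℤ) := by
  rw [← relCodim_pt X x.1 x.2 (Ω.2.1 _ x.2.le) Ω.2.2]
  simp only [relCodim, g.dim_eq]

lemma eq_sum_lof [DecidableEq (X.cdPt c)] (M : A.Cat) (i n : ℤ) (z : T.ptSum X c M i n)
    (h : ∀ x ∉ S, z x = 0) :
    z = ∑ x ∈ S, DirectSum.lof R (X.cdPt c) (fun y : X.cdPt c => T.ptGp X y.1 M i n) x (z x) := by
  refine DFinsupp.ext fun y => ?_
  change z y = _
  erw [DFinsupp.finsetSum_apply]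
  by_cases hy : y ∈ S
  · rw [Finset.sum_eq_single y]
    · exact (DirectSum.lof_apply (M := fun y : X.cdPt c => T.ptGp X y.1 M i n) R y (z y)).symm
    · intro x _ hxy
      exact DFinsupp.single_eq_of_ne hxy.symm
    · exact fun h' => absurd hy h'
  · rw [h y hy]
    refine (Finset.sum_eq_zero fun x hx => DFinsupp.single_eq_of_ne ?_).symm
    rintro rfl
    exact hy hx

end Groth.Agent.BMCoh
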