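import Mathlib

set_option autoImplicit false
universe u

open AlgebraicGeometry CategoryTheory CategoryTheory.Limits TopologicalSpace

noncomputable section

namespace Groth.Agent.BMCoh

lemma mono_fromSpecStalk (X : Scheme.{u}) (x : X) : Mono (X.fromSpecStalk x) := inferInstance

/-- A separated morphism of finite type between integral schemes with a dominant section over the
generic point is an isomorphism over a neighbourhood of the generic point. -/
theorem exists_isIso_restrict {Y P : Scheme.{u}} [IsIntegral Y] [IsIntegral P] (g : Y ⟶ P)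
    [LocallyOfFiniteType g] [IsSeparated g] (ξ : Spec P.functionField ⟶ Y) [IsDominant ξ]
    (h : ξ ≫ g = P.fromSpecStalk (genericPoint P)) :
    ∃ U : P.Opens, genericPoint P ∈ U ∧ IsIso (g ∣_ U) := by
  -- the image of the closed point is the generic point
  have hη : ξ (IsLocalRing.closedPoint P.functionField) = genericPoint Y := by
    have hsub : Set.range ξ ⊆ {ξ (IsLocalRing.closedPoint P.functionField)} := by
      rintro _ ⟨p, rfl⟩
      have : p = IsLocalRing.closedPoint P.functionField :=
        @Subsingleton.elim (PrimeSpectrum P.functionField) inferInstance _ _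
      rw [this]
      rfl
    have hg : IsGenericPoint (ξ (IsLocalRing.closedPoint P.functionField)) (Set.univ : Set Y) :=
      Set.eq_univ_of_univ_subset ((ξ.denseRange.closure_range).ge.trans (closure_mono hsub))
    exact hg.eq (genericPoint_spec Y)
  have hgη : g (genericPoint Y) = genericPoint P := by
    rw [← hη]
    change (ξ ≫ g) (IsLocalRing.closedPoint P.functionField) = _
    rw [h]
    exact Scheme.fromSpecStalk_closedPoint
  -- the two maps between the function fields
  let b : Y.functionField ⟶ P.functionField :=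
    Y.presheaf.stalkSpecializes (Inseparable.of_eq hη).specializes ≫ Scheme.stalkClosedPointTo ξ
  let a : P.functionField ⟶ Y.functionField :=
    P.presheaf.stalkSpecializes (Inseparable.of_eq hgη).specializes ≫ g.stalkMap (genericPoint Y)
  have hb : Spec.map b ≫ Y.fromSpecStalk (genericPoint Y) = ξ := by
    simp only [b, Spec.map_comp, Category.assoc, Scheme.SpecMap_stalkSpecializes_fromSpecStalk]
    exact Scheme.Spec_stalkClosedPointTo_fromSpecStalk ξ
  have ha : Spec.map a ≫ P.fromSpecStalk (genericPoint P) =
      Y.fromSpecStalk (genericPoint Y) ≫ g := by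
    simp only [a, Spec.map_comp, Category.assoc, Scheme.SpecMap_stalkSpecializes_fromSpecStalk]
    exact Scheme.SpecMap_stalkMap_fromSpecStalk g
  have hab : a ≫ b = 𝟙 _ := by
    apply Spec.map_injective
    rw [← cancel_mono (P.fromSpecStalk (genericPoint P)), Spec.map_comp, Spec.map_id,
      Category.assoc, ha, ← Category.assoc, hb, h, Category.id_comp]
  have : IsIso b := by
    refine (ConcreteCategory.isIso_iff_bijective b).mpr ⟨b.hom.injective, fun z => ⟨a z, ?_⟩⟩
    exact congr($hab z)
  let n := Spec.map b
  have hj : Y.fromSpecStalk (genericPoint Y) = inv n ≫ ξ := by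
    rw [IsIso.eq_inv_comp]
    exact hb
  -- spread the section out
  obtain ⟨U, hU, σ, hσ, hσg⟩ := spread_out_of_isGermInjective' (𝟙 P) g ξ
    (h.trans (Category.comp_id _).symm)
  rw [Category.comp_id] at hσg
  refine ⟨U, hU, ?_⟩
  let W : Y.Opens := g ⁻¹ᵁ U
  have hηW : genericPoint Y ∈ W := by
    change g (genericPoint Y) ∈ U
    rw [hgη]
    exact hU
  have : Nonempty W := ⟨⟨_, hηW⟩⟩
  have hdom : IsDominant (W.fromSpecStalkOfMem (genericPoint Y) hηW) := by
    refine ⟨fun w => ?_⟩
    have hsp : (⟨genericPoint Y, hηW⟩ : W) ⤳ w :=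
      W.ι.isEmbedding.isInducing.specializes_iff.mp (genericPoint_specializes w.1)
    refine closure_mono ?_ (specializes_iff_mem_closure.mp hsp)
    rintro _ rfl
    refine ⟨IsLocalRing.closedPoint _, W.ι.isEmbedding.injective ?_⟩
    change (W.fromSpecStalkOfMem (genericPoint Y) hηW ≫ W.ι) _ = _
    rw [Scheme.Opens.fromSpecStalkOfMem_ι]
    exact Scheme.fromSpecStalk_closedPoint
  have hτ : W.ι = (g ∣_ U) ≫ σ := by
    refine ext_of_isDominant_of_isSeparated g ?_ (W.fromSpecStalkOfMem _ hηW) ?_
    · rw [Category.assoc, hσg, morphismRestrict_ι]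
    · have e : W.fromSpecStalkOfMem _ hηW ≫ (g ∣_ U) = inv n ≫ U.fromSpecStalkOfMem _ hU := by
        rw [← cancel_mono U.ι, Category.assoc, morphismRestrict_ι, ← Category.assoc,
          Scheme.Opens.fromSpecStalkOfMem_ι, Category.assoc, Scheme.Opens.fromSpecStalkOfMem_ι, hj,
          Category.assoc, h]
      rw [Scheme.Opens.fromSpecStalkOfMem_ι, ← Category.assoc, e, Category.assoc, hj]
      exact congrArg (inv n ≫ ·) hσ
  have hrange : Set.range σ ⊆ (W : Set Y) := by
    rintro _ ⟨u, rfl⟩
    change g (σ u) ∈ U
    rw [show g (σ u) = (σ ≫ g) u from rfl, hσg]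
    exact u.2
  let σ' : U.toScheme ⟶ W.toScheme := IsOpenImmersion.lift W.ι σ (by simpa using hrange)
  have hσ' : σ' ≫ W.ι = σ := IsOpenImmersion.lift_fac _ _ _
  refine ⟨⟨σ', ?_, ?_⟩⟩
  · rw [← cancel_mono W.ι, Category.assoc, hσ', Category.id_comp]
    exact hτ.symm
  · rw [← cancel_mono U.ι, Category.assoc, morphismRestrict_ι, Category.id_comp, ← Category.assoc,
      hσ', hσg]

end Groth.Agent.BMCoh
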