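import Groth.Agent.BMCoh.Steps

set_option autoImplicit false
set_option linter.unusedSectionVars false
universe u

open AlgebraicGeometry CategoryTheory CategoryTheory.Limits Opposite TopologicalSpace Topology BMCoh

noncomputable section

namespace Groth.Agent.BMCoh

variable {V : ObjectProperty Scheme.{u}} [IsConstructible V] {R : Type u} [CommRing R] {A : Coefs R}
  {T : PreTheory V R A} {X : Obj V}

lemma containsFj_inf_compl {j : ℕ} {x : X.scheme} (hx : j < WeilCoh.codim X.scheme x)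
    (U : X.scheme.Opens) (hU : ContainsFj X j U) :
    ContainsFj X j (U ⊓ ⟨(closure {x})ᶜ, isClosed_closure.isOpen_compl⟩) := by
  intro y hy
  refine ⟨hU y hy, fun hyx => ?_⟩
  have hxy : x ⤳ y := specializes_iff_mem_closure.mpr hyx
  by_cases e : x = y
  · subst e; omega
  · have := pdim_lt X hxy e
    simp only [WeilCoh.codim] at hx hy
    omega

lemma inf_compl_inter (x : X.scheme) (U : X.scheme.Opens) :
    (U : Set X.scheme) ∩ (closure {x})ᶜ =
      (U ⊓ ⟨(closure {x})ᶜ, isClosed_closure.isOpen_compl⟩ : X.scheme.Opens) := rfl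

/-- `Q.cpt` on a class given off the closure of `x` near `x` is the residue. -/
lemma resData_cpt_eq {j : ℕ} (Q : T.ResData X j) (x : X.cdPt (j + 1))
    {U : Idx X (ContainsFj X j)} {Y : X.scheme.Opens} (hx : x.1 ∈ Y)
    (h : (Y : Set X.scheme) ∩ (closure {x.1})ᶜ = U.1)
    (hd : WeilCoh.dim U.1.toScheme = WeilCoh.dim Y.toScheme) (M : A.Cat) (i n i' n' : ℤ)
    (hi : i' = i + 1 - 2 * ((j : ℤ) + 1)) (hn : n' = n - ((j : ℤ) + 1))
    (hi₁ : i' = i + 1 - 2 * (ptDecomp X x.1 Y U.1 h hd).codim)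
    (hn₁ : n' = n - (ptDecomp X x.1 Y U.1 h hd).codim)
    (b : T.gp (X.res U.1) M i n) :
    (Q.cpt x M i n i' n' hi hn).hom (cls T M i n U b) =
      cls T M i' n' (mkPtIdx X (ptPre X x.1 Y) (ptPre_nonempty X hx))
        ((T.res (ptDecomp X x.1 Y U.1 h hd) M i n i' n' hi₁ hn₁).hom b) := by
  have key := congr($(Q.cpt_spec x M i n i' n' hi hn (X.resι Y (hd.symm.trans U.2.2))
    (ptDecomp X x.1 Y U.1 h hd) (mkPtIdx X (ptPre X x.1 Y) (ptPre_nonempty X hx)) (𝟙 _)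
    ((Category.id_comp _).trans (ptMor_ι X x.1 Y)) U (𝟙 _)
    ((Category.id_comp _).trans (X.scheme.homOfLE_ι (fun y hy => (h.ge hy).1 : U.1 ≤ Y))) hi₁ hn₁).hom b)
  have e₁ := pull_id T (X := X.res U.1) M i n b
  have e₂ := pull_id T (X := (X.ptSub x.1).res (ptPre X x.1 Y)) M i' n'
    ((T.res (ptDecomp X x.1 Y U.1 h hd) M i n i' n' hi₁ hn₁).hom b)
  refine ((congrArg (fun z => (Q.cpt x M i n i' n' hi hn).hom (cls T M i n U z)) e₁).symm.trans
    key).trans ?_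
  exact congrArg (cls T M i' n' (mkPtIdx X (ptPre X x.1 Y) (ptPre_nonempty X hx))) e₂

/-- `Q.cpt` kills classes defined at the point. -/
lemma resData_cpt_eq_zero {j : ℕ} (Q : T.ResData X j) (x : X.cdPt (j + 1))
    (U : Idx X (ContainsFj X j)) (hxU : x.1 ∈ U.1) (M : A.Cat) (i n i' n' : ℤ)
    (hi : i' = i + 1 - 2 * ((j : ℤ) + 1)) (hn : n' = n - ((j : ℤ) + 1))
    (b : T.gp (X.res U.1) M i n) :
    (Q.cpt x M i n i' n' hi hn).hom (cls T M i n U b) = 0 := by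
  let U₁ := mkIdx X _ (containsFj_inf_compl (x := x.1) (by rw [x.2]; omega) U.1 U.2.1)
  have hd : WeilCoh.dim U₁.1.toScheme = WeilCoh.dim U.1.toScheme := U₁.2.2.trans U.2.2.symm
  have hcd : (ptDecomp X x.1 U.1 U₁.1 (inf_compl_inter x.1 U.1) hd).codim = ((j + 1 : ℕ) : ℤ) :=
    ptDecomp_codim x.2 hxU U.2.2 _ hd
  rw [← cls_pull T M i n (inf_le_left : U₁.1 ≤ U.1) hd b,
    resData_cpt_eq Q x hxU (inf_compl_inter x.1 U.1) hd M i n i' n' hi hn
      (by rw [hcd]; push_cast; exact hi) (by rw [hcd]; push_cast; exact hn)]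
  exact (congrArg _ (res_pull_j T (ptDecomp X x.1 U.1 U₁.1 (inf_compl_inter x.1 U.1) hd) M i n i' n'
    (by rw [hcd]; push_cast; exact hi) (by rw [hcd]; push_cast; exact hn) b)).trans (map_zero _)

/-- `P.cpt` on a class given on the trace of an open is the push-forward. -/
lemma pushData_cpt_eq {j : ℕ} (P : T.PushData X j) (x : X.cdPt j) (U : Idx X (ContainsFj X j))
    (M : A.Cat) (i n i' n' : ℤ) (hi : i' = i + 2 * (j : ℤ)) (hn : n' = n + (j : ℤ))
    (hi₁ : i' = i + 2 * relCodim ((X.ptSub x.1).res (ptPre X x.1 U.1)).scheme (X.res U.1).scheme)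
    (hn₁ : n' = n + relCodim ((X.ptSub x.1).res (ptPre X x.1 U.1)).scheme (X.res U.1).scheme)
    (c : T.gp ((X.ptSub x.1).res (ptPre X x.1 U.1)) M i n) :
    (P.cpt x M i n i' n' hi hn).hom
        (cls T M i n (mkPtIdx X (ptPre X x.1 U.1) (ptPre_nonempty X (U.2.1 _ x.2.le))) c) =
      cls T M i' n' U ((T.push (ptMor X x.1 U.1) M i n i' n' hi₁ hn₁).hom c) :=
  congr($(P.cpt_spec x M i n i' n' hi hn U
    (mkPtIdx X (ptPre X x.1 U.1) (ptPre_nonempty X (U.2.1 _ x.2.le))) (ptMor X x.1 U.1)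
    (ptMor_ι X x.1 U.1) hi₁ hn₁).hom c)

lemma pushData_subsingleton (T : PreTheory V R A) (X : Obj V) (j : ℕ) :
    Subsingleton (T.PushData X j) := by
  suffices key : ∀ (P P' : T.PushData X j) (x : X.cdPt j) (M : A.Cat) (i n i' n' : ℤ)
      (hi : i' = i + 2 * (j : ℤ)) (hn : n' = n + (j : ℤ)) (a : T.ptGp X x.1 M i n),
      (P.cpt x M i n i' n' hi hn).hom a = (P'.cpt x M i n i' n' hi hn).hom a by
    refine ⟨fun P P' => ?_⟩
    obtain ⟨c, hc⟩ := P
    obtain ⟨c', hc'⟩ := P'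
    congr
    funext x M i n i' n' hi hn
    ext a
    exact key ⟨c, hc⟩ ⟨c', hc'⟩ x M i n i' n' hi hn a
  intro P P' x M i n i' n' hi hn a
  have := nonempty_ptIdx X x.1
  obtain ⟨W, b, rfl⟩ := exists_rep T M i n (dir_pt X x.1) a
  obtain ⟨O, hxO, hO, -, hOW⟩ := exists_ptPre_eq X x.1 W.1 W.2.1
  let U := mkIdx X O (by rw [x.2] at hO; exact hO)
  rw [← cls_pull T M i n (U := mkPtIdx X (ptPre X x.1 U.1) (ptPre_nonempty X (U.2.1 _ x.2.le)))
    (U' := W) hOW.le ((dim_ptSub_open X x.1 _ (ptPre_nonempty X hxO)).trans W.2.2.symm) b]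
  have hr := relCodim_pt X x.1 x.2 hxO U.2.2
  rw [pushData_cpt_eq P x U M i n i' n' hi hn (by rw [hr]; exact hi) (by rw [hr]; exact hn),
    pushData_cpt_eq P' x U M i n i' n' hi hn (by rw [hr]; exact hi) (by rw [hr]; exact hn)]

lemma resData_subsingleton (T : PreTheory V R A) (X : Obj V) (j : ℕ) :
    Subsingleton (T.ResData X j) := by
  suffices key : ∀ (P P' : T.ResData X j) (x : X.cdPt (j + 1)) (M : A.Cat) (i n i' n' : ℤ)
      (hi : i' = i + 1 - 2 * ((j : ℤ) + 1)) (hn : n' = n - ((j : ℤ) + 1))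
      (a : T.fjGp X j M i n),
      (P.cpt x M i n i' n' hi hn).hom a = (P'.cpt x M i n i' n' hi hn).hom a by
    refine ⟨fun P P' => ?_⟩
    obtain ⟨c, hc, hf⟩ := P
    obtain ⟨c', hc', hf'⟩ := P'
    congr
    funext x M i n i' n' hi hn
    ext a
    exact key ⟨c, hc, hf⟩ ⟨c', hc', hf'⟩ x M i n i' n' hi hn a
  intro P P' x M i n i' n' hi hn a
  obtain ⟨U, b, rfl⟩ := exists_rep T M i n (dir_fj X j) a
  by_cases hxU : x.1 ∈ U.1
  · rw [resData_cpt_eq_zero P x U hxU, resData_cpt_eq_zero P' x U hxU]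
  obtain ⟨Y, hUY, -, hxY, hY⟩ := exists_step X x.1 (O := ⊤) le_top trivial
    (isMaximalIn_of_codim X U.2.1 hxU x.2)
  let Y' := mkIdx X Y fun y hy => hUY (U.2.1 y hy)
  have hd : WeilCoh.dim U.1.toScheme = WeilCoh.dim Y.toScheme := U.2.2.trans Y'.2.2.symm
  have hcd : (ptDecomp X x.1 Y U.1 hY hd).codim = ((j + 1 : ℕ) : ℤ) :=
    ptDecomp_codim x.2 hxY Y'.2.2 hY hd
  rw [resData_cpt_eq P x hxY hY hd M i n i' n' hi hn (by rw [hcd]; push_cast; exact hi)
      (by rw [hcd]; push_cast; exact hn),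
    resData_cpt_eq P' x hxY hY hd M i n i' n' hi hn (by rw [hcd]; push_cast; exact hi)
      (by rw [hcd]; push_cast; exact hn)]

/-- Extending a class by growing its open of definition past the points of `S`. -/
lemma exists_extension_set {j : ℕ} (S : Set X.scheme) (M : A.Cat) (i n : ℤ)
    (hmax : ∀ U : Idx X (ContainsFj X j), ¬ S ⊆ (U.1 : Set X.scheme) →
      ∃ x ∈ S, IsMaximalIn (U.1 : Set X.scheme)ᶜ x)
    (U₀ : Idx X (ContainsFj X j)) (b₀ : T.gp (X.res U₀.1) M i n)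
    (hres : ∀ (U : Idx X (ContainsFj X j)) (hU : U₀.1 ≤ U.1) (b : T.gp (X.res U.1) M i n),
      (T.pull (X.resLE hU (U₀.2.2.trans U.2.2.symm)) M i n).hom b = b₀ →
      ∀ x ∈ S, ∀ (c : ℕ), WeilCoh.codim X.scheme x = c → ∀ (Y : X.scheme.Opens) (hx : x ∈ Y)
        (h : (Y : Set X.scheme) ∩ (closure {x})ᶜ = U.1)
        (hd : WeilCoh.dim U.1.toScheme = WeilCoh.dim Y.toScheme) (i' n' : ℤ)
        (_ : i' = i + 1 - 2 * (c : ℤ)) (_ : n' = n - (c : ℤ))
        (hi₁ : i' = i + 1 - 2 * (ptDecomp X x Y U.1 h hd).codim)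
        (hn₁ : n' = n - (ptDecomp X x Y U.1 h hd).codim),
        cls T M i' n' (mkPtIdx X (ptPre X x Y) (ptPre_nonempty X hx))
          ((T.res (ptDecomp X x Y U.1 h hd) M i n i' n' hi₁ hn₁).hom b) = 0) :
    ∃ (U : Idx X (ContainsFj X j)) (hU : U₀.1 ≤ U.1), S ⊆ (U.1 : Set X.scheme) ∧
      ∃ b, (T.pull (X.resLE hU (U₀.2.2.trans U.2.2.symm)) M i n).hom b = b₀ := by
  have := noetherianSpace X
  suffices key : ∀ (O : X.scheme.Opens) (hO : ContainsFj X j O) (hU : U₀.1 ≤ O)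
      (b : T.gp (X.res O) M i n),
      (T.pull (X.resLE hU (U₀.2.2.trans (mkIdx X O hO).2.2.symm)) M i n).hom b = b₀ →
      ∃ (U : Idx X (ContainsFj X j)) (hU : U₀.1 ≤ U.1), S ⊆ (U.1 : Set X.scheme) ∧
        ∃ b, (T.pull (X.resLE hU (U₀.2.2.trans U.2.2.symm)) M i n).hom b = b₀ from
    key U₀.1 U₀.2.1 le_rfl b₀ (by rw [resLE_rfl]; exact pull_id T M i n b₀)
  intro O
  induction O using WellFoundedGT.induction with
  | _ O ih =>
    intro hO hU b hb
    by_cases hS : S ⊆ (O : Set X.scheme)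
    · exact ⟨mkIdx X O hO, hU, hS, b, hb⟩
    obtain ⟨x, hxS, hx⟩ := hmax (mkIdx X O hO) hS
    obtain ⟨Y, hOY, -, hxY, hY⟩ := exists_step X x (O := ⊤) le_top trivial hx
    let Y' := mkIdx X Y fun y hy => hOY (hO y hy)
    have hd : WeilCoh.dim O.toScheme = WeilCoh.dim Y.toScheme :=
      (mkIdx X O hO).2.2.trans Y'.2.2.symm
    have hcd := ptDecomp_codim (X := X) (x := x) rfl hxY Y'.2.2 hY hd
    obtain ⟨Z, hOZ, hxZ, -, b', hb'⟩ := exists_extension T (x := x) rfl M (U := mkIdx X O hO) hxY hY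
      hd i n _ _ rfl rfl b (by rw [hcd]) (by rw [hcd])
      (hres (mkIdx X O hO) hU b hb x hxS _ rfl Y hxY hY hd _ _ rfl rfl _ _)
    have hlt : O < Z.1 := by
      refine lt_of_le_of_ne hOZ fun e => hx.1 ?_
      change x ∈ O
      rw [e]
      exact hxZ
    refine ih Z.1 hlt Z.2.1 (hU.trans hOZ) b' ?_
    rw [← pull_resLE_resLE T X hU hOZ (U₀.2.2.trans (mkIdx X O hO).2.2.symm)
      ((mkIdx X O hO).2.2.trans Z.2.2.symm) M i n b']
    exact (congrArg _ hb').trans hb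

/-- A class vanishing on `U₀` vanishes on an open containing `S` too, if the relevant groups of
points vanish. -/
lemma exists_vanishing_set {j : ℕ} (S : Set X.scheme) (M : A.Cat) (i n : ℤ)
    (hmax : ∀ U : Idx X (ContainsFj X j), ¬ S ⊆ (U.1 : Set X.scheme) →
      ∃ x ∈ S, IsMaximalIn (U.1 : Set X.scheme)ᶜ x)
    (hzero : ∀ x ∈ S, ∀ (c : ℕ), WeilCoh.codim X.scheme x = c →
      IsZero (T.ptGp X x M (i - 2 * (c : ℤ)) (n - (c : ℤ))))
    (O : Idx X (ContainsFj X j)) (hSO : S ⊆ (O.1 : Set X.scheme)) (b : T.gp (X.res O.1) M i n)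
    (U₀ : Idx X (ContainsFj X j)) (h₀ : U₀.1 ≤ O.1)
    (hb₀ : (T.pull (X.resLE h₀ (U₀.2.2.trans O.2.2.symm)) M i n).hom b = 0) :
    ∃ (U : Idx X (ContainsFj X j)) (hU : U.1 ≤ O.1), U₀.1 ≤ U.1 ∧ S ⊆ (U.1 : Set X.scheme) ∧
      (T.pull (X.resLE hU (U.2.2.trans O.2.2.symm)) M i n).hom b = 0 := by
  have := noetherianSpace X
  suffices key : ∀ (Z : X.scheme.Opens) (hZ : ContainsFj X j Z) (h₀Z : U₀.1 ≤ Z) (hZO : Z ≤ O.1),
      (T.pull (X.resLE hZO ((mkIdx X Z hZ).2.2.trans O.2.2.symm)) M i n).hom b = 0 →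
      ∃ (U : Idx X (ContainsFj X j)) (hU : U.1 ≤ O.1), U₀.1 ≤ U.1 ∧ S ⊆ (U.1 : Set X.scheme) ∧
        (T.pull (X.resLE hU (U.2.2.trans O.2.2.symm)) M i n).hom b = 0 from
    key U₀.1 U₀.2.1 le_rfl h₀ hb₀
  intro Z
  induction Z using WellFoundedGT.induction with
  | _ Z ih =>
    intro hZ h₀Z hZO hb
    by_cases hS : S ⊆ (Z : Set X.scheme)
    · exact ⟨mkIdx X Z hZ, hZO, h₀Z, hS, hb⟩
    obtain ⟨x, hxS, hx⟩ := hmax (mkIdx X Z hZ) hS
    obtain ⟨Y, hZY, hYO, hxY, hY⟩ := exists_step X x hZO (hSO hxS) hx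
    let Y' := mkIdx X Y fun y hy => hZY (hZ y hy)
    have hd : WeilCoh.dim Z.toScheme = WeilCoh.dim Y.toScheme :=
      (mkIdx X Z hZ).2.2.trans Y'.2.2.symm
    have hdO : WeilCoh.dim Y.toScheme = WeilCoh.dim O.1.toScheme := Y'.2.2.trans O.2.2.symm
    obtain ⟨e, he⟩ := exists_push_pt T rfl M hxY Y'.2.2 hY hd i n
      (i - 2 * (WeilCoh.codim X.scheme x : ℤ)) (n - (WeilCoh.codim X.scheme x : ℤ)) (by ring)
      (by ring) ((T.pull (X.resLE hYO hdO) M i n).hom b) (by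
        rw [pull_resLE_resLE]
        exact hb)
    have := nonempty_ptIdx X x
    have hsub := ModuleCat.subsingleton_of_isZero (hzero x hxS _ rfl)
    obtain ⟨W, hW, hW0⟩ := exists_pull_eq_zero T M _ _ (dir_pt X x)
      (U := mkPtIdx X (ptPre X x Y) (ptPre_nonempty X hxY)) (b := e) (Subsingleton.elim _ _)
    obtain ⟨W', hxW', -, hW'c, hWW⟩ := exists_ptPre_eq X x W.1 W.2.1
    have hxN : x ∈ Y ⊓ W' := ⟨hxY, hxW'⟩
    have hZN : Z ≤ Y ⊓ W' := le_inf hZY fun y hy => hW'c (hY.ge hy).2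
    let N := mkIdx X (Y ⊓ W') fun y hy => hZN (hZ y hy)
    have hlt : Z < Y ⊓ W' := lt_of_le_of_ne hZN fun e => hx.1 (by
      change x ∈ Z
      rw [e]
      exact hxN)
    refine ih (Y ⊓ W') hlt N.2.1 (h₀Z.trans hZN) (inf_le_left.trans hYO) ?_
    have hdN : WeilCoh.dim (Y ⊓ W').toScheme = WeilCoh.dim Y.toScheme := N.2.2.trans Y'.2.2.symm
    rw [← pull_resLE_resLE T X (inf_le_left : Y ⊓ W' ≤ Y) hYO hdN hdO M i n b, ← he]
    have hr := relCodim_pt X x rfl hxN N.2.2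
    have hdW : WeilCoh.dim (ptPre X x (Y ⊓ W')).toScheme = WeilCoh.dim (ptPre X x Y).toScheme :=
      (dim_ptSub_open X x _ (ptPre_nonempty X hxN)).trans
        (dim_ptSub_open X x _ (ptPre_nonempty X hxY)).symm
    refine (pull_push_pt T X x inf_le_left hdN hdW M _ _ i n _ _ (by rw [hr]; ring)
      (by rw [hr]; ring) e).trans ?_
    have hWle : ptPre X x (Y ⊓ W') ≤ W.1 := (ptPre_mono X x inf_le_right).trans hWW.le
    have e0 : (T.pull ((X.ptSub x).resLE (ptPre_mono X x (inf_le_left : Y ⊓ W' ≤ Y)) hdW) M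
        (i - 2 * (WeilCoh.codim X.scheme x : ℤ)) (n - (WeilCoh.codim X.scheme x : ℤ))).hom e = 0 :=
      (pull_resLE_resLE T (X.ptSub x) hWle hW
        ((dim_ptSub_open X x _ (ptPre_nonempty X hxN)).trans W.2.2.symm)
        (W.2.2.trans (dim_ptSub_open X x _ (ptPre_nonempty X hxY)).symm) M _ _ e).symm.trans
        ((congrArg _ hW0).trans (map_zero _))
    rw [e0]
    exact map_zero _

lemma hmax_codim {j : ℕ} (U : Idx X (ContainsFj X j))
    (h : ¬ {x : X.scheme | WeilCoh.codim X.scheme x = j + 1} ⊆ (U.1 : Set X.scheme)) :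
    ∃ x ∈ {x : X.scheme | WeilCoh.codim X.scheme x = j + 1},
      IsMaximalIn (U.1 : Set X.scheme)ᶜ x := by
  obtain ⟨x, hx, hxU⟩ := Set.not_subset.mp h
  exact ⟨x, hx, isMaximalIn_of_codim X U.2.1 hxU hx⟩

lemma hmax_gt {j : ℕ} (U : Idx X (ContainsFj X j))
    (h : ¬ {x : X.scheme | j < WeilCoh.codim X.scheme x} ⊆ (U.1 : Set X.scheme)) :
    ∃ x ∈ {x : X.scheme | j < WeilCoh.codim X.scheme x},
      IsMaximalIn (U.1 : Set X.scheme)ᶜ x := by
  obtain ⟨y, -, hy⟩ := Set.not_subset.mp h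
  obtain ⟨x, hx⟩ := exists_maximal_of_nonempty X U.1.2.isClosed_compl ⟨y, hy⟩
  exact ⟨x, not_le.mp fun hle => hx.1 (U.2.1 x hle), hx⟩

lemma containsFj_succ {j : ℕ} {U : X.scheme.Opens} (hU : ContainsFj X j U)
    (h : {x : X.scheme | WeilCoh.codim X.scheme x = j + 1} ⊆ (U : Set X.scheme)) :
    ContainsFj X (j + 1) U := fun y hy =>
  (Nat.lt_or_eq_of_le hy).elim (fun h' => hU y (by omega)) (fun h' => h h')

lemma eq_top_of_gt {j : ℕ} {U : X.scheme.Opens} (hU : ContainsFj X j U)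
    (h : {x : X.scheme | j < WeilCoh.codim X.scheme x} ⊆ (U : Set X.scheme)) : U = ⊤ :=
  top_le_iff.mp fun y _ => (le_or_gt (WeilCoh.codim X.scheme y) j).elim (hU y) (fun h' => h h')

end Groth.Agent.BMCoh
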