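import Groth.Agent.BMCoh.Exact
import Groth.Agent.BMCoh.Family

set_option autoImplicit false
set_option linter.unusedSectionVars false
universe u

open AlgebraicGeometry CategoryTheory CategoryTheory.Limits Opposite TopologicalSpace Topology BMCoh

noncomputable section

namespace Groth.Agent.BMCoh

variable {V : ObjectProperty Scheme.{u}} [IsConstructible V] {R : Type u} [CommRing R] {A : Coefs R}
  {T : PreTheory V R A} {X : Obj V}

lemma exists_maximal_specializes {C : Set X.scheme} {y : X.scheme} (hy : y ∈ C) :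
    ∃ z, IsMaximalIn C z ∧ z ⤳ y := by
  classical
  let N := {n | ∃ z ∈ C, z ⤳ y ∧ WeilCoh.pdim X.scheme z = n}
  have hb : BddAbove N := ⟨WeilCoh.dim X.scheme, by
    rintro n ⟨z, -, -, rfl⟩
    exact pdim_le_dim X z⟩
  obtain ⟨z, hzC, hzy, hz⟩ := Nat.sSup_mem (s := N) ⟨_, y, hy, specializes_rfl, rfl⟩ hb
  refine ⟨z, ⟨hzC, fun w hw hwz => ?_⟩, hzy⟩
  by_contra hne
  have h₁ := pdim_lt X hwz hne
  have h₂ : WeilCoh.pdim X.scheme w ≤ sSup N := le_csSup hb ⟨w, hw, hwz.trans hzy, rfl⟩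
  omega

/-- Separate the codimension `c` maximal points of a closed set missing `F_{c-1}`. -/
lemma exists_layout {c : ℕ} {C : Set X.scheme} (hC : IsClosed C)
    (hCc : ∀ y ∈ C, c ≤ WeilCoh.codim X.scheme y) :
    ∃ (S : Finset (X.cdPt c)) (O : Idx X (ContainsFj X c)), (∀ x, x ∈ S ↔ x.1 ∈ C) ∧
      Cᶜ ⊆ (O.1 : Set X.scheme) ∧ (O.1 : Set X.scheme) ∩ C ⊆ unionCl S ∧
      ∀ x ∈ S, ∀ y ∈ S, x ≠ y →
        (O.1 : Set X.scheme) ∩ (closure {x.1} ∩ closure {y.1}) = ∅ := by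
  classical
  have hmax : ∀ x : X.cdPt c, x.1 ∈ C → IsMaximalIn C x.1 := by
    refine fun x hx => ⟨hx, fun y hy hyx => ?_⟩
    by_contra hne
    have := pdim_lt X hyx hne
    have := (codim_eq_iff X _ _).mp x.2
    have := hCc y hy
    simp only [WeilCoh.codim] at this
    have := pdim_le_dim X y
    omega
  have hfin : {x : X.cdPt c | x.1 ∈ C}.Finite :=
    Set.Finite.of_finite_image ((finite_maximal X hC).subset
      (Set.image_subset_iff.mpr hmax)) Subtype.val_injective.injOn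
  let S := hfin.toFinset
  have hS : ∀ x, x ∈ S ↔ x.1 ∈ C := fun x => Set.Finite.mem_toFinset hfin
  let E : Set X.scheme :=
    ⋃ z ∈ {z | IsMaximalIn C z ∧ c < WeilCoh.codim X.scheme z}, closure {z}
  have hE : IsClosed E :=
    ((finite_maximal X hC).subset fun z hz => hz.1).isClosed_biUnion fun _ _ => isClosed_closure
  obtain ⟨O₁, hO₁, hdisj⟩ := exists_separating S
  let O := mkIdx X (O₁.1 ⊓ ⟨Eᶜ, hE.isOpen_compl⟩) (fun y hy => ⟨O₁.2.1 y hy, fun hyE => by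
    obtain ⟨z, ⟨-, hz⟩, hyz⟩ := Set.mem_iUnion₂.mp hyE
    rcases eq_or_ne z y with rfl | hne
    · omega
    · have := pdim_lt X (specializes_iff_mem_closure.mpr hyz) hne
      simp only [WeilCoh.codim] at hy hz
      omega⟩)
  refine ⟨S, O, hS, fun y hy => ⟨hO₁ fun h => ?_, fun hyE => ?_⟩, fun y hy => ?_,
    fun x hx z hz hxz => ?_⟩
  · obtain ⟨x, hx, hyx⟩ := (mem_unionCl S).mp h
    exact hy (closure_minimal (Set.singleton_subset_iff.mpr ((hS x).mp hx)) hC hyx)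
  · obtain ⟨z, ⟨hz, -⟩, hyz⟩ := Set.mem_iUnion₂.mp hyE
    exact hy (closure_minimal (Set.singleton_subset_iff.mpr hz.1) hC hyz)
  · obtain ⟨z, hz, hzy⟩ := exists_maximal_specializes hy.2
    have hzc : WeilCoh.codim X.scheme z = c := by
      refine le_antisymm (not_lt.mp fun h => hy.1.2 ?_) (hCc z hz.1)
      exact Set.mem_biUnion (x := z) ⟨hz, h⟩ (specializes_iff_mem_closure.mp hzy)
    exact (mem_unionCl S).mpr ⟨⟨z, hzc⟩, (hS _).mpr hz.1, specializes_iff_mem_closure.mp hzy⟩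
  · exact Set.subset_eq_empty (Set.inter_subset_inter_left _ fun w hw => hw.1)
      (hdisj x hx z hz hxz)

/-- Classes of finitely many points represented on one open. -/
lemma exists_common_rep {c : ℕ} (S : Finset (X.cdPt c)) (M : A.Cat) (i n : ℤ)
    (z : ∀ x : X.cdPt c, T.ptGp X x.1 M i n) :
    ∃ O : Idx X (ContainsFj X c), (unionCl S)ᶜ ⊆ (O.1 : Set X.scheme) ∧ ∀ x : S,
      ∃ e : T.gp ((X.ptSub x.1.1).res (ptPre X x.1.1 O.1)) M i n,
        cls T M i n (mkPtIdx X (ptPre X x.1.1 O.1) (ptPre_nonempty X (O.2.1 _ x.1.2.le))) e = z x.1 := by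
  classical
  have hex : ∀ x : X.cdPt c, ∃ O : X.scheme.Opens, ContainsFj X c O ∧
      (closure {x.1})ᶜ ⊆ (O : Set X.scheme) ∧ ∃ W : ptIdx X x.1, ptPre X x.1 O ≤ W.1 ∧
      ∃ b, cls T M i n W b = z x := by
    intro x
    have := nonempty_ptIdx X x.1
    obtain ⟨W, b, hb⟩ := exists_rep T M i n (dir_pt X x.1) (z x)
    obtain ⟨O, -, hO, hOc, hOW⟩ := exists_ptPre_eq X x.1 W.1 W.2.1
    rw [x.2] at hO
    exact ⟨O, hO, hOc, W, hOW.le, b, hb⟩
  choose O hO hOc W hW b hb using hex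
  have hmem : ∀ y, y ∈ S.inf O ↔ ∀ x ∈ S, y ∈ O x := by
    intro y
    rw [← SetLike.mem_coe, TopologicalSpace.Opens.coe_finset_inf]
    simp
  let O' := mkIdx X (S.inf O) (fun y hy => (hmem y).mpr fun x _ => hO x y hy)
  refine ⟨O', fun y hy => (hmem y).mpr fun x hx => hOc x fun h => hy ((mem_unionCl S).mpr
    ⟨x, hx, h⟩), fun x => ?_⟩
  have hne := ptPre_nonempty X (O'.2.1 _ x.1.2.le)
  have hle : ptPre X x.1.1 O'.1 ≤ (W x.1).1 :=
    (ptPre_mono X x.1.1 (Finset.inf_le x.2)).trans (hW x.1)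
  have hd := (dim_ptSub_open X x.1.1 _ hne).trans (W x.1).2.2.symm
  exact ⟨_, (cls_pull T M i n (U := mkPtIdx X _ hne) hle hd _).trans (hb x.1)⟩

/-- Push-forward kills residues. -/
lemma pushTot_resTot (T : PreTheory V R A) (X : Obj V) (j : ℕ) (Q : T.ResData X j)
    (P : T.PushData X (j + 1)) (M : A.Cat) (i n i' n' : ℤ)
    (hi : i' = i + 1 - 2 * ((j : ℤ) + 1)) (hn : n' = n - ((j : ℤ) + 1))
    (hi2 : i + 1 = i' + 2 * ((j + 1 : ℕ) : ℤ)) (hn2 : n = n' + ((j + 1 : ℕ) : ℤ)) :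
    ∀ a, (P.tot M i' n' (i + 1) n hi2 hn2).hom ((Q.tot M i n i' n' hi hn).hom a) = 0 := by
  classical
  rintro a
  obtain ⟨U, b, rfl⟩ := exists_rep T M i n (dir_fj X j) a
  obtain ⟨S, O, hS, hO, hOC, hdisj⟩ := exists_layout (c := j + 1) (C := (U.1 : Set X.scheme)ᶜ)
    U.1.2.isClosed_compl (fun y hy => not_le.mp fun h => hy (U.2.1 y (by omega)))
  have hz : ∀ x ∉ S, (Q.tot M i n i' n' hi hn).hom (cls T M i n U b) x = 0 := fun x hx =>
    resData_cpt_eq_zero Q x U (not_not.mp fun h => hx ((hS x).mpr h)) M i n i' n' hi hn b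
  rw [eq_sum_lof T S M i' n' _ hz]
  rw [map_sum]
  by_cases hne : S = ∅
  · simp [hne]
  obtain ⟨x₀, hx₀⟩ := Finset.nonempty_iff_ne_empty.mpr hne
  rw [← Finset.sum_coe_sort]
  have hUO : U.1 ≤ O.1 := fun y hy => hO (not_not.mpr hy)
  have hUΩ : (O.1 : Set X.scheme) ∩ (unionCl S)ᶜ = U.1 := by
    ext y
    refine ⟨fun hy => not_not.mp fun h => hy.2 (hOC ⟨hy.1, h⟩), fun hy => ⟨hUO hy, fun h => ?_⟩⟩
    obtain ⟨x, hx, hyx⟩ := (mem_unionCl S).mp h
    exact (closure_minimal (Set.singleton_subset_iff.mpr ((hS x).mp hx))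
      U.1.2.isClosed_compl hyx) hy
  have := isReduced_famObj S O.1
  obtain ⟨g, hgp, hg, hgd, hgc⟩ := exists_family S O hdisj (famι S O.1) (range_famι S O.1)
  have hd : WeilCoh.dim U.1.toScheme = WeilCoh.dim O.1.toScheme := U.2.2.trans O.2.2.symm
  let D := famDecomp S O.1 U.1 hUΩ hd
  have hc : relCodim (famObj S O.1).scheme (X.res O.1).scheme = ((j + 1 : ℕ) : ℤ) :=
    relCodim_family x₀ (g ⟨x₀, hx₀⟩)
  have hc1 : i' = i + 1 - 2 * D.codim := by
    change i' = i + 1 - 2 * relCodim (famObj S O.1).scheme (X.res O.1).scheme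
    rw [hc]; omega
  have hc2 : n' = n - D.codim := by
    change n' = n - relCodim (famObj S O.1).scheme (X.res O.1).scheme
    rw [hc]; omega
  have hc3 : i + 1 = i' + 2 * relCodim (famObj S O.1).scheme (X.res O.1).scheme := by
    rw [hc]; exact hi2
  have hc4 : n = n' + relCodim (famObj S O.1).scheme (X.res O.1).scheme := by
    rw [hc]; exact hn2
  let r := (T.res D M i n i' n' hc1 hc2).hom b
  have key : ∀ x : S, (Q.cpt x.1 M i n i' n' hi hn).hom (cls T M i n U b) =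
      cls T M i' n' (mkPtIdx X (ptPre X x.1.1 O.1) (ptPre_nonempty X (O.2.1 _ x.1.2.le)))
        ((T.pull (g x) M i' n').hom r) := by
    intro x
    have k := congr($(Q.cpt_spec x.1 M i n i' n' hi hn (X.resι O.1 O.2.2) D
      (mkPtIdx X (ptPre X x.1.1 O.1) (ptPre_nonempty X (O.2.1 _ x.1.2.le))) (g x)
      (by
        change (g x).hom ≫ famι S O.1 ≫ O.1.ι = _
        rw [← Category.assoc, hg x, ptMor_ι])
      U (𝟙 _) ((Category.id_comp _).trans (X.scheme.homOfLE_ι hUO)) hc1 hc2).hom b)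
    exact (congrArg (fun t => (Q.cpt x.1 M i n i' n' hi hn).hom (cls T M i n U t))
      (pull_id T (X := X.res U.1) M i n b)).symm.trans k
  have hr : ∀ x : S,
      i + 1 = i' + 2 * relCodim ((X.ptSub x.1.1).res (ptPre X x.1.1 O.1)).scheme (X.res O.1).scheme ∧
      n = n' + relCodim ((X.ptSub x.1.1).res (ptPre X x.1.1 O.1)).scheme (X.res O.1).scheme := by
    intro x
    rw [relCodim_pt X x.1.1 x.1.2 (O.2.1 _ x.1.2.le) O.2.2]
    exact ⟨hi2, hn2⟩
  calc _ = ∑ x : S, cls T M (i + 1) n O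
        ((T.push (famι S O.1) M i' n' (i + 1) n hc3 hc4).hom
          ((T.push (g x).hom M i' n' i' n' (by rw [relCodim_hom (g x)]; ring)
            (by rw [relCodim_hom (g x)]; ring)).hom ((T.pull (g x) M i' n').hom r))) := by
          refine Finset.sum_congr rfl fun x _ => ?_
          refine (P.tot_lof M i' n' (i + 1) n hi2 hn2 x.1 _).trans ?_
          refine (congrArg (P.cpt x.1 M i' n' (i + 1) n hi2 hn2).hom (key x)).trans ?_
          rw [pushData_cpt_eq P x.1 O M i' n' (i + 1) n hi2 hn2 (hr x).1 (hr x).2,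
            push_push T (g x).hom (famι S O.1) (ptMor X x.1.1 O.1) (hg x) M i' n' i' n' (i + 1) n
              _ _ hc3 hc4 (hr x).1 (hr x).2]
    _ = 0 := by
          simp only [cls, ← map_sum]
          rw [sum_push_pull T g hgd hgc M i' n' r]
          exact (congrArg _ (push_res T D M i n i' n' hc1 hc2 hc3 hc4 b)).trans (map_zero _)

/-- A family killed by push-forward is a residue. -/
lemma exists_resTot_eq (T : PreTheory V R A) (X : Obj V) (j : ℕ) (Q : T.ResData X j)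
    (P : T.PushData X (j + 1)) (M : A.Cat) (i n i' n' : ℤ)
    (hi : i' = i + 1 - 2 * ((j : ℤ) + 1)) (hn : n' = n - ((j : ℤ) + 1))
    (hi2 : i + 1 = i' + 2 * ((j + 1 : ℕ) : ℤ)) (hn2 : n = n' + ((j + 1 : ℕ) : ℤ))
    (z : T.ptSum X (j + 1) M i' n') (hz : (P.tot M i' n' (i + 1) n hi2 hn2).hom z = 0) :
    ∃ a, (Q.tot M i n i' n' hi hn).hom a = z := by
  classical
  obtain ⟨S, hS⟩ : ∃ S : Finset (X.cdPt (j + 1)), ∀ x, z x ≠ 0 ↔ x ∈ S :=
    ⟨DFinsupp.support z, fun x => DFinsupp.mem_support_iff.symm⟩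
  by_cases hne : S = ∅
  · refine ⟨0, ?_⟩
    rw [map_zero]
    refine DFinsupp.ext fun x => ?_
    by_contra h
    have := (hS x).mp (Ne.symm h)
    rw [hne] at this
    exact absurd this (Finset.notMem_empty x)
  obtain ⟨x₀, hx₀⟩ := Finset.nonempty_iff_ne_empty.mpr hne
  obtain ⟨O₁, hO₁, hdisj₁⟩ := exists_separating S
  obtain ⟨O₂, hO₂, he⟩ := exists_common_rep (T := T) S M i' n' (fun x => z x)
  choose e he using he
  obtain ⟨Ω₀, hΩ₁, hΩ₂⟩ := dir_fj X (j + 1) O₁ O₂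
  have hm : ∀ (Ω : Idx X (ContainsFj X (j + 1))) (x : S), x.1.1 ∈ Ω.1 :=
    fun Ω x => Ω.2.1 _ x.1.2.le
  have hidx : ∀ (Ω : Idx X (ContainsFj X (j + 1))) (x : S),
      i + 1 = i' + 2 * relCodim ((X.ptSub x.1.1).res (ptPre X x.1.1 Ω.1)).scheme (X.res Ω.1).scheme ∧
      n = n' + relCodim ((X.ptSub x.1.1).res (ptPre X x.1.1 Ω.1)).scheme (X.res Ω.1).scheme := by
    intro Ω x
    rw [relCodim_pt X x.1.1 x.1.2 (hm Ω x) Ω.2.2]
    exact ⟨hi2, hn2⟩
  have hdp : ∀ (Ω Ω' : Idx X (ContainsFj X (j + 1))) (x : S),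
      WeilCoh.dim (ptPre X x.1.1 Ω.1).toScheme = WeilCoh.dim (ptPre X x.1.1 Ω'.1).toScheme :=
    fun Ω Ω' x => (dim_ptSub_open X _ _ (ptPre_nonempty X (hm Ω x))).trans
      (dim_ptSub_open X _ _ (ptPre_nonempty X (hm Ω' x))).symm
  let e₀ : ∀ x : S, T.gp ((X.ptSub x.1.1).res (ptPre X x.1.1 Ω₀.1)) M i' n' := fun x =>
    (T.pull ((X.ptSub x.1.1).resLE (ptPre_mono X x.1.1 hΩ₂) (hdp Ω₀ O₂ x)) M i' n').hom (e x)
  have he₀ : ∀ x : S, cls T M i' n'
      (mkPtIdx X (ptPre X x.1.1 Ω₀.1) (ptPre_nonempty X (hm Ω₀ x))) (e₀ x) = z x.1 := fun x =>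
    (cls_pull T M i' n'
      (U := mkPtIdx X (ptPre X x.1.1 Ω₀.1) (ptPre_nonempty X (hm Ω₀ x)))
      (U' := mkPtIdx X (ptPre X x.1.1 O₂.1) (ptPre_nonempty X (hm O₂ x)))
      (ptPre_mono X x.1.1 hΩ₂) (hdp Ω₀ O₂ x) (e x)).trans (he x)
  let p₀ := fun x : S => (T.push (ptMor X x.1.1 Ω₀.1) M i' n' (i + 1) n (hidx Ω₀ x).1
    (hidx Ω₀ x).2).hom (e₀ x)
  have hsum : ∑ x ∈ S, (P.cpt x M i' n' (i + 1) n hi2 hn2).hom (z x) = 0 := by
    have h := congrArg (P.tot M i' n' (i + 1) n hi2 hn2).hom (eq_sum_lof T S M i' n' z (fun x hx => by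
      by_contra h
      exact hx ((hS x).mp h)))
    rw [hz, map_sum] at h
    refine (Finset.sum_congr rfl fun x _ => ?_).trans h.symm
    exact (P.tot_lof M i' n' (i + 1) n hi2 hn2 x (z x)).symm
  have hcls : cls T M (i + 1) n Ω₀ (∑ x : S, p₀ x) = 0 := by
    rw [← hsum, ← Finset.sum_coe_sort S]
    refine (map_sum _ _ _).trans (Finset.sum_congr rfl fun x _ => ?_)
    rw [← he₀ x]
    exact (pushData_cpt_eq P x.1 Ω₀ M i' n' (i + 1) n hi2 hn2 (hidx Ω₀ x).1 (hidx Ω₀ x).2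
      (e₀ x)).symm
  obtain ⟨Ω, hΩ, hΩ0⟩ := exists_pull_eq_zero T M (i + 1) n (dir_fj X (j + 1)) hcls
  let e' : ∀ x : S, T.gp ((X.ptSub x.1.1).res (ptPre X x.1.1 Ω.1)) M i' n' := fun x =>
    (T.pull ((X.ptSub x.1.1).resLE (ptPre_mono X x.1.1 hΩ) (hdp Ω Ω₀ x)) M i' n').hom (e₀ x)
  have hΩ1 : Ω.1 ≤ O₁.1 := hΩ.trans hΩ₁
  have := isReduced_famObj S Ω.1
  obtain ⟨g, hgp, hg, hgd, hgc⟩ := exists_family S Ω
    (fun x hx y hy hxy => Set.subset_eq_empty (Set.inter_subset_inter_left _ hΩ1)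
      (hdisj₁ x hx y hy hxy)) (famι S Ω.1) (range_famι S Ω.1)
  let U : X.scheme.Opens := Ω.1 ⊓ ⟨(unionCl S)ᶜ, (isClosed_unionCl S).isOpen_compl⟩
  have hUj : ContainsFj X j U := by
    refine fun y hy => ⟨Ω.2.1 y (by omega), fun h => ?_⟩
    obtain ⟨x, -, hyx⟩ := (mem_unionCl S).mp h
    have h1 : y ∈ (⊤ ⊓ ⟨(closure {x.1})ᶜ, isClosed_closure.isOpen_compl⟩ : X.scheme.Opens) :=
      containsFj_inf_compl (x := x.1) (by rw [x.2]; omega) ⊤ (fun _ _ => trivial) y hy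
    exact h1.2 hyx
  let U' := mkIdx X U hUj
  have hd : WeilCoh.dim U.toScheme = WeilCoh.dim Ω.1.toScheme := U'.2.2.trans Ω.2.2.symm
  let D := famDecomp S Ω.1 U rfl hd
  have hc : relCodim (famObj S Ω.1).scheme (X.res Ω.1).scheme = ((j + 1 : ℕ) : ℤ) :=
    relCodim_family x₀ (g ⟨x₀, hx₀⟩)
  have hc1 : i' = i + 1 - 2 * D.codim := by
    change i' = i + 1 - 2 * relCodim (famObj S Ω.1).scheme (X.res Ω.1).scheme
    rw [hc]; omega
  have hc2 : n' = n - D.codim := by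
    change n' = n - relCodim (famObj S Ω.1).scheme (X.res Ω.1).scheme
    rw [hc]; omega
  have hc3 : i + 1 = i' + 2 * relCodim (famObj S Ω.1).scheme (X.res Ω.1).scheme := by
    rw [hc]; exact hi2
  have hc4 : n = n' + relCodim (famObj S Ω.1).scheme (X.res Ω.1).scheme := by
    rw [hc]; exact hn2
  let w := ∑ x : S, (T.push (g x).hom M i' n' i' n' (by rw [relCodim_hom (g x)]; ring)
    (by rw [relCodim_hom (g x)]; ring)).hom (e' x)
  have hw : (T.push (famι S Ω.1) M i' n' (i + 1) n hc3 hc4).hom w = 0 := by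
    rw [← hΩ0]
    simp only [w, map_sum]
    refine Finset.sum_congr rfl fun x _ => ?_
    refine (push_push T (g x).hom (famι S Ω.1) (ptMor X x.1.1 Ω.1) (hg x) M i' n' i' n' (i + 1) n
      _ _ hc3 hc4 (hidx Ω x).1 (hidx Ω x).2 (e' x)).trans ?_
    exact (pull_push_pt T X x.1.1 hΩ (Ω.2.2.trans Ω₀.2.2.symm) (hdp Ω Ω₀ x) M i' n' (i + 1) n
      _ _ _ _ (e₀ x)).symm
  obtain ⟨b, hb⟩ := exists_of_push_eq_zero T D M i n i' n' hc1 hc2 hc3 hc4 w hw
  refine ⟨cls T M i n U' b, DFinsupp.ext fun y => ?_⟩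
  change (Q.cpt y M i n i' n' hi hn).hom (cls T M i n U' b) = z y
  by_cases hy : y ∈ S
  · let x : S := ⟨y, hy⟩
    have key := congr($(Q.cpt_spec y M i n i' n' hi hn (X.resι Ω.1 Ω.2.2) D
      (mkPtIdx X (ptPre X y.1 Ω.1) (ptPre_nonempty X (hm Ω x))) (g x)
      (by
        change (g x).hom ≫ famι S Ω.1 ≫ Ω.1.ι = _
        rw [← Category.assoc, hg x, ptMor_ι])
      U' (𝟙 _) ((Category.id_comp _).trans
        (X.scheme.homOfLE_ι (inf_le_left : U ≤ Ω.1))) hc1 hc2).hom b)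
    refine ((congrArg (fun t => (Q.cpt y M i n i' n' hi hn).hom (cls T M i n U' t))
      (pull_id T (X := X.res U) M i n b)).symm.trans key).trans ?_
    change cls T M i' n' (mkPtIdx X (ptPre X y.1 Ω.1) (ptPre_nonempty X (hm Ω x)))
      ((T.pull (g x) M i' n').hom ((T.res D M i n i' n' hc1 hc2).hom b)) = _
    erw [hb, pull_sum_push T g hgd M i' n' e' x]
    exact (cls_pull T M i' n' (U := mkPtIdx X (ptPre X y.1 Ω.1) (ptPre_nonempty X (hm Ω x)))
      (U' := mkPtIdx X (ptPre X y.1 Ω₀.1) (ptPre_nonempty X (hm Ω₀ x)))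
      (ptPre_mono X y.1 hΩ) (hdp Ω Ω₀ x) (e₀ x)).trans (he₀ x)
  · have hyU : y.1 ∈ U'.1 := by
      refine ⟨Ω.2.1 _ y.2.le, fun h => ?_⟩
      obtain ⟨x, hx, hyx⟩ := (mem_unionCl S).mp h
      exact hy (eq_of_mem_closure hyx ▸ hx)
    rw [resData_cpt_eq_zero Q y U' hyU M i n i' n' hi hn b]
    by_contra h
    exact hy ((hS y).mp (Ne.symm h))

lemma exact_resTot_pushTot (T : PreTheory V R A) (X : Obj V) (j : ℕ) (Q : T.ResData X j)
    (P : T.PushData X (j + 1)) (M : A.Cat) (i n i' n' : ℤ)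
    (hi : i' = i + 1 - 2 * ((j : ℤ) + 1)) (hn : n' = n - ((j : ℤ) + 1))
    (hi2 : i + 1 = i' + 2 * ((j + 1 : ℕ) : ℤ)) (hn2 : n = n' + ((j + 1 : ℕ) : ℤ)) :
    Function.Exact (Q.tot M i n i' n' hi hn).hom (P.tot M i' n' (i + 1) n hi2 hn2).hom :=
  fun z => ⟨exists_resTot_eq T X j Q P M i n i' n' hi hn hi2 hn2 z, fun ⟨a, ha⟩ =>
    ha ▸ pushTot_resTot T X j Q P M i n i' n' hi hn hi2 hn2 a⟩

end Groth.Agent.BMCoh
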