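import Groth.Agent.BMCoh.PtPush
import Groth.Agent.BMCoh.Middle

set_option autoImplicit false
set_option linter.unusedSectionVars false
universe u

open AlgebraicGeometry CategoryTheory CategoryTheory.Limits Opposite TopologicalSpace Topology BMCoh

noncomputable section

namespace Groth.Agent.BMCoh

lemma exists_lift_closedImm {S P Z : Scheme.{u}} [IsReduced S] (f : S ⟶ P) (i : Z ⟶ P)
    [IsClosedImmersion i] (h : Set.range f ⊆ Set.range i) : ∃ l : S ⟶ Z, l ≫ i = f := by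
  have : Surjective (pullback.fst f i) := by
    refine ⟨Set.range_eq_univ.mp (Set.eq_univ_of_forall fun p => ?_)⟩
    rw [AlgebraicGeometry.Scheme.Pullback.range_fst]
    exact h ⟨p, rfl⟩
  have := isIso_of_isClosedImmersion_of_surjective (pullback.fst f i)
  exact ⟨inv (pullback.fst f i) ≫ pullback.snd _ _, by simp [← pullback.condition]⟩

variable {V : ObjectProperty Scheme.{u}} [IsConstructible V] {R : Type u} [CommRing R] {A : Coefs R}

lemma dim_eq_of_bijective_closedImm {Z' Z : Obj V} (k : Z'.scheme ⟶ Z.scheme) [IsClosedImmersion k]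
    [Surjective k] : WeilCoh.dim Z'.scheme = WeilCoh.dim Z.scheme := by
  have e := (k.isEmbedding.toHomeomorph.trans
    ((Homeomorph.setCongr k.surjective.range_eq).trans (Homeomorph.Set.univ _)))
  exact congrArg (fun a : WithBot ℕ∞ => (a.unbotD 0).toNat) e.isHomeomorph.topologicalKrullDim_eq

/-- The residue of a push-forward, summed over the points above. -/
lemma resTot_push_eq (T : PreTheory V R A)
    (hred : ∀ (S : Obj V) (D D'' : Decomp S) (gU : D''.U ⟶ D.U)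
      (k : D''.Z.scheme ⟶ D.Z.scheme) [IsClosedImmersion k] [AlgebraicGeometry.Surjective k],
      gU ≫ D.j = D''.j → k ≫ D.i = D''.i →
      ∀ (M : A.Cat) (i n i' n' : ℤ) (hi : i' = i + 1 - 2 * D.codim) (hn : n' = n - D.codim)
        (hi'' : i' = i + 1 - 2 * D''.codim) (hn'' : n' = n - D''.codim)
        (hk : i' = i' + 2 * relCodim D''.Z.scheme D.Z.scheme)
        (hk' : n' = n' + relCodim D''.Z.scheme D.Z.scheme),
      T.pull gU M i n ≫ T.res D'' M i n i' n' hi'' hn'' ≫ T.push k M i' n' i' n' hk hk' =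
        T.res D M i n i' n' hi hn)
    {X Y : Obj V} (φ : Y.scheme ⟶ X.scheme) [IsProper φ] (q : ℕ)
    (hdim : WeilCoh.dim Y.scheme + q = WeilCoh.dim X.scheme)
    (Q : T.ResData X q) (Q' : T.ResData Y 0) (t : Y.cdPt 1 → X.cdPt (q + 1))
    (F : ∀ y : Y.cdPt 1, T.PtPush φ y.1 (t y).1)
    (O : Idx X (ContainsFj X q)) (hOY : ContainsFj Y 0 (φ ⁻¹ᵁ O.1))
    (hsurj : (O.1 : Set X.scheme)ᶜ ⊆ Set.range φ)
    [IsProper (X := (Y.res (φ ⁻¹ᵁ O.1)).scheme) (Y := (X.res O.1).scheme) (φ ∣_ O.1)]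
    (M : A.Cat) (i n i₁ n₁ i₂ n₂ : ℤ)
    (h2 : i₂ = i₁ + 1 - 2 * ((q : ℤ) + 1)) (h2' : n₂ = n₁ - ((q : ℤ) + 1))
    (h4 : i₂ = i + 1 - 2 * (((0 : ℕ) : ℤ) + 1)) (h4' : n₂ = n - (((0 : ℕ) : ℤ) + 1))
    (hp : i₁ = i + 2 * relCodim (Y.res (φ ⁻¹ᵁ O.1)).scheme (X.res O.1).scheme)
    (hp' : n₁ = n + relCodim (Y.res (φ ⁻¹ᵁ O.1)).scheme (X.res O.1).scheme)
    (β : T.gp (Y.res (φ ⁻¹ᵁ O.1)) M i n) :
    (Q.tot M i₁ n₁ i₂ n₂ h2 h2').hom (cls T M i₁ n₁ O
        ((T.push (X := Y.res (φ ⁻¹ᵁ O.1)) (Y := X.res O.1) (φ ∣_ O.1) M i n i₁ n₁ hp hp').hom β)) =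
      (PreTheory.PtPush.famTot t F M i₂ n₂).hom
        ((Q'.tot M i n i₂ n₂ h4 h4').hom (cls T M i n (mkIdx Y (φ ⁻¹ᵁ O.1) hOY) β)) := by
  classical
  let OY := mkIdx Y (φ ⁻¹ᵁ O.1) hOY
  have ht : ∀ y : Y.cdPt 1, φ y.1 = (t y).1 := fun y => (F y).maps_pt
  obtain ⟨SX, LX, hSX, hLX, hLXC, hdX⟩ := exists_layout (c := q + 1)
    (C := (O.1 : Set X.scheme)ᶜ) O.1.2.isClosed_compl
    (fun y hy => not_le.mp fun h => hy (O.2.1 y (by omega)))
  obtain ⟨SY, LY, hSY, hLY, hLYC, hdY⟩ := exists_layout (c := 1)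
    (C := (OY.1 : Set Y.scheme)ᶜ) OY.1.2.isClosed_compl
    (fun y hy => not_le.mp fun h => hy (OY.2.1 y (by omega)))
  have hSt : ∀ y ∈ SY, t y ∈ SX := by
    intro y hy
    rw [hSX, ← ht y]
    exact (hSY y).mp hy
  let B : Set X.scheme := φ '' (LY.1 : Set Y.scheme)ᶜ
  have hB : IsClosed B := φ.isClosedMap _ LY.1.2.isClosed_compl
  have hBO : B ⊆ (O.1 : Set X.scheme)ᶜ := by
    rintro _ ⟨p, hp, rfl⟩ hpO
    exact hp (hLY (not_not.mpr hpO))
  have hBc : ∀ p ∈ B, q + 1 < WeilCoh.codim X.scheme p := by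
    rintro _ ⟨p, hp, rfl⟩
    have h1 : ¬ WeilCoh.codim Y.scheme p ≤ 1 := fun h => hp (LY.2.1 p h)
    have h2 := pdim_le_of_isProper φ p
    have h3 := pdim_le_dim Y p
    simp only [WeilCoh.codim] at h1 ⊢
    omega
  let Ω := mkIdx X (LX.1 ⊓ ⟨Bᶜ, hB.isOpen_compl⟩)
    (fun p hp => ⟨LX.2.1 p hp, fun h => absurd (hBc p h) (not_lt.mpr hp)⟩)
  have hOΩ : O.1 ≤ Ω.1 := fun p hp => ⟨hLX (not_not.mpr hp), fun h => hBO h hp⟩
  have hΩY : φ ⁻¹ᵁ Ω.1 ≤ LY.1 := fun p hp => not_not.mp fun h => hp.2 ⟨p, h, rfl⟩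
  have hOYΩ : OY.1 ≤ φ ⁻¹ᵁ Ω.1 := φ.preimage_mono hOΩ
  have hmemX : ∀ x : SX, x.1.1 ∈ Ω.1 := fun x => Ω.2.1 _ x.1.2.le
  let ΩY := mkIdx Y (j := 1) (φ ⁻¹ᵁ Ω.1) (fun p hp => by
    by_cases h : p ∈ OY.1
    · exact hOYΩ h
    · have hp1 : WeilCoh.codim Y.scheme p = 1 := by
        have h' : ¬ WeilCoh.codim Y.scheme p ≤ 0 := fun h' => h (OY.2.1 p h')
        omega
      change φ p ∈ Ω.1
      rw [ht ⟨p, hp1⟩]
      exact Ω.2.1 _ (t ⟨p, hp1⟩).2.le)
  -- the case with nothing outside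
  by_cases hne : SX = ∅
  · have hz : ∀ y : Y.cdPt 1, y.1 ∈ OY.1 := fun y => by
      by_contra h
      have := hSt y ((hSY y).mpr h)
      rw [hne] at this
      exact absurd this (Finset.notMem_empty _)
    have e1 : (Q'.tot M i n i₂ n₂ h4 h4').hom (cls T M i n OY β) = 0 :=
      DFinsupp.ext fun y => resData_cpt_eq_zero Q' y OY (hz y) M i n i₂ n₂ h4 h4' β
    rw [e1, map_zero]
    refine DFinsupp.ext fun x => resData_cpt_eq_zero Q x O ?_ M i₁ n₁ i₂ n₂ h2 h2' _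
    by_contra h
    have := (hSX x).mpr h
    rw [hne] at this
    exact absurd this (Finset.notMem_empty _)
  obtain ⟨x₀, hx₀⟩ := Finset.nonempty_iff_ne_empty.mpr hne
  obtain ⟨y₀, hy₀⟩ : ∃ y₀, y₀ ∈ SY := by
    obtain ⟨p, hp⟩ := hsurj ((hSX x₀).mp hx₀)
    have hpO : p ∉ OY.1 := fun h => (hSX x₀).mp hx₀ (hp ▸ h)
    have h1 : ¬ WeilCoh.codim Y.scheme p ≤ 0 := fun h => hpO (OY.2.1 p h)
    have h2 := pdim_le_of_isProper φ p
    rw [hp] at h2
    have h3 := pdim_le_dim Y p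
    have h4 := (codim_eq_iff X _ _).mp x₀.2
    have hp1 : WeilCoh.codim Y.scheme p = 1 := by
      simp only [WeilCoh.codim] at h1 ⊢
      omega
    exact ⟨⟨p, hp1⟩, (hSY _).mpr hpO⟩
  have := isReduced_famObj SX Ω.1
  have := isReduced_famObj SY ΩY.1
  obtain ⟨g, hgp, hg, hgd, hgc⟩ := exists_family SX Ω
    (fun x hx y hy hxy => Set.subset_eq_empty (Set.inter_subset_inter_left _ fun p hp => hp.1)
      (hdX x hx y hy hxy)) (famι SX Ω.1) (range_famι SX Ω.1)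
  obtain ⟨g', hgp', hg', hgd', hgc'⟩ := exists_family SY ΩY
    (fun x hx y hy hxy => Set.subset_eq_empty (Set.inter_subset_inter_left _ fun p hp => hΩY hp)
      (hdY x hx y hy hxy)) (famι SY ΩY.1) (range_famι SY ΩY.1)
  have hUX : (Ω.1 : Set X.scheme) ∩ (unionCl SX)ᶜ = O.1 := by
    ext p
    refine ⟨fun hp => not_not.mp fun h => hp.2 (hLXC ⟨hp.1.1, h⟩), fun hp => ⟨hOΩ hp, fun h => ?_⟩⟩
    obtain ⟨x, hx, hpx⟩ := (mem_unionCl SX).mp h
    exact (closure_minimal (Set.singleton_subset_iff.mpr ((hSX x).mp hx))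
      O.1.2.isClosed_compl hpx) hp
  have hUY : (ΩY.1 : Set Y.scheme) ∩ (unionCl SY)ᶜ = OY.1 := by
    ext p
    refine ⟨fun hp => not_not.mp fun h => hp.2 (hLYC ⟨hΩY hp.1, h⟩),
      fun hp => ⟨hOYΩ hp, fun h => ?_⟩⟩
    obtain ⟨x, hx, hpx⟩ := (mem_unionCl SY).mp h
    exact (closure_minimal (Set.singleton_subset_iff.mpr ((hSY x).mp hx))
      OY.1.2.isClosed_compl hpx) hp
  have hdUX : WeilCoh.dim O.1.toScheme = WeilCoh.dim Ω.1.toScheme := O.2.2.trans Ω.2.2.symm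
  have hdUY : WeilCoh.dim OY.1.toScheme = WeilCoh.dim ΩY.1.toScheme := OY.2.2.trans ΩY.2.2.symm
  let D := famDecomp SX Ω.1 O.1 hUX hdUX
  let D'' := famDecomp SY ΩY.1 OY.1 hUY hdUY
  let φΩ : (Y.res ΩY.1).scheme ⟶ (X.res Ω.1).scheme := φ ∣_ Ω.1
  have : IsProper φΩ := inferInstanceAs (IsProper (φ ∣_ Ω.1))
  -- the closed part over `Ω`
  let Z' : Obj V := ⟨pullback φΩ (famι SX Ω.1),
    IsConstructible.of_isClosedImmersion (pullback.fst φΩ (famι SX Ω.1)) (h := inferInstance)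
      (Y.res ΩY.1).mem⟩
  have hr' : Set.range (pullback.fst φΩ (famι SX Ω.1)) =
      Subtype.val ⁻¹' (OY.1 : Set Y.scheme)ᶜ := by
    rw [AlgebraicGeometry.Scheme.Pullback.range_fst, range_famι]
    ext p
    change (φΩ p).1 ∈ unionCl SX ↔ _
    have e : (φΩ p).1 = φ p.1 := morphismRestrict_base_coe φ Ω.1 p
    rw [e]
    constructor
    · exact fun h hp' => (hUX.ge hp').2 h
    · exact fun h => hLXC ⟨(show φ p.1 ∈ Ω.1 from p.2).1, h⟩
  let D' : Decomp (Y.res ΩY.1) :=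
    { Z := Z'
      U := Y.res OY.1
      i := pullback.fst φΩ (famι SX Ω.1)
      closedImm := inferInstanceAs (IsClosedImmersion (pullback.fst φΩ (famι SX Ω.1)))
      j := Y.resLE hOYΩ hdUY
      range_eq := by
        change Set.range (Y.scheme.homOfLE hOYΩ) = (Set.range (pullback.fst φΩ (famι SX Ω.1)))ᶜ
        rw [hr']
        ext p
        constructor
        · rintro ⟨z, rfl⟩ hm
          have e : (Y.scheme.homOfLE hOYΩ z).1 = z.1 := Scheme.homOfLE_apply _ _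
          exact hm (e.symm ▸ z.2)
        · intro hp
          exact ⟨⟨p.1, not_not.mp hp⟩, Subtype.ext (Scheme.homOfLE_apply _ _)⟩ }
  have hsub : Set.range (famι SY ΩY.1) = Set.range (pullback.fst φΩ (famι SX Ω.1)) := by
    rw [hr', range_famι]
    ext p
    exact ⟨fun h hp => (hUY.ge hp).2 h, fun h => hLYC ⟨hΩY p.2, h⟩⟩
  have : IsClosedImmersion (pullback.fst φΩ (famι SX Ω.1)) :=
    inferInstanceAs (IsClosedImmersion (pullback.fst φΩ (famι SX Ω.1)))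
  obtain ⟨k, hk⟩ := exists_lift_closedImm (famι SY ΩY.1) (pullback.fst φΩ (famι SX Ω.1)) hsub.le
  have : IsClosedImmersion (k ≫ pullback.fst φΩ (famι SX Ω.1)) := by rw [hk]; infer_instance
  have hkc : IsClosedImmersion (X := (famObj SY ΩY.1).scheme) (Y := Z'.scheme) k :=
    IsClosedImmersion.of_comp k (pullback.fst φΩ (famι SX Ω.1))
  have hks : Surjective (X := (famObj SY ΩY.1).scheme) (Y := Z'.scheme) k := ⟨fun z => by
    obtain ⟨p, hp⟩ := hsub.ge ⟨z, rfl⟩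
    refine ⟨p, (pullback.fst φΩ (famι SX Ω.1)).isEmbedding.injective ?_⟩
    rw [← hp, ← hk]
    rfl⟩
  let fZ : Z'.scheme ⟶ (famObj SX Ω.1).scheme := pullback.snd φΩ (famι SX Ω.1)
  have : IsProper fZ := inferInstanceAs (IsProper (pullback.snd φΩ (famι SX Ω.1)))
  have : IsProper (X := (Y.res OY.1).scheme) (Y := (X.res O.1).scheme) (φ ∣_ O.1) :=
    inferInstanceAs (IsProper (φ ∣_ O.1))
  -- indices
  have dX : WeilCoh.dim (famObj SX Ω.1).scheme + (q + 1) = WeilCoh.dim X.scheme := by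
    have h := relCodim_family x₀ (g ⟨x₀, hx₀⟩)
    simp only [relCodim] at h
    rw [show WeilCoh.dim (X.res Ω.1).scheme = WeilCoh.dim X.scheme from Ω.2.2] at h
    omega
  have dY : WeilCoh.dim (famObj SY ΩY.1).scheme + 1 = WeilCoh.dim Y.scheme := by
    have h := relCodim_family y₀ (g' ⟨y₀, hy₀⟩)
    simp only [relCodim] at h
    rw [show WeilCoh.dim (Y.res ΩY.1).scheme = WeilCoh.dim Y.scheme from ΩY.2.2] at h
    omega
  have dZ : WeilCoh.dim (famObj SY ΩY.1).scheme = WeilCoh.dim Z'.scheme :=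
    dim_eq_of_bijective_closedImm k
  have cX : D.codim = (q : ℤ) + 1 := by
    change (WeilCoh.dim Ω.1.toScheme : ℤ) - (WeilCoh.dim (famObj SX Ω.1).scheme : ℤ) = _
    rw [Ω.2.2]; omega
  have cY : D''.codim = 1 := by
    change (WeilCoh.dim ΩY.1.toScheme : ℤ) - (WeilCoh.dim (famObj SY ΩY.1).scheme : ℤ) = _
    rw [ΩY.2.2]; omega
  have cY' : D'.codim = 1 := by
    change (WeilCoh.dim ΩY.1.toScheme : ℤ) - (WeilCoh.dim Z'.scheme : ℤ) = _
    rw [ΩY.2.2]; omega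
  have cfZ : relCodim Z'.scheme (famObj SX Ω.1).scheme = 0 := by
    simp only [relCodim]; omega
  have ck : relCodim (famObj SY ΩY.1).scheme Z'.scheme = 0 := by
    simp only [relCodim]; omega
  let h : (famObj SY ΩY.1).scheme ⟶ (famObj SX Ω.1).scheme := k ≫ fZ
  have : IsProper h := inferInstanceAs (IsProper (k ≫ fZ))
  have ch : relCodim (famObj SY ΩY.1).scheme (famObj SX Ω.1).scheme = 0 := by
    simp only [relCodim]; omega
  have hh : h ≫ famι SX Ω.1 = famι SY ΩY.1 ≫ φΩ := by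
    rw [← hk, Category.assoc, Category.assoc, pullback.condition]
  let r := (T.res D'' M i n i₂ n₂ (by rw [cY]; omega) (by rw [cY]; omega)).hom β
  let Rr := (T.res D M i₁ n₁ i₂ n₂ (by rw [cX]; omega) (by rw [cX]; omega)).hom
    ((T.push (X := Y.res OY.1) (Y := X.res O.1) (φ ∣_ O.1) M i n i₁ n₁ hp hp').hom β)
  have hR : Rr = (T.push h M i₂ n₂ i₂ n₂ (by rw [ch]; ring) (by rw [ch]; ring)).hom r := by
    have : IsClosedImmersion (X := D''.Z.scheme) (Y := D'.Z.scheme) k := hkc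
    have : Surjective (X := D''.Z.scheme) (Y := D'.Z.scheme) k := hks
    have e1 := congr($(hred _ D' D'' (𝟙 _) k (Category.id_comp _) hk M i n i₂ n₂
      (by rw [cY']; omega) (by rw [cY']; omega) (by rw [cY]; omega) (by rw [cY]; omega)
      (by rw [show relCodim D''.Z.scheme D'.Z.scheme = 0 from ck]; ring)
      (by rw [show relCodim D''.Z.scheme D'.Z.scheme = 0 from ck]; ring)).hom β)
    have : IsProper (X := D'.Z.scheme) (Y := D.Z.scheme) fZ :=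
      inferInstanceAs (IsProper (pullback.snd φΩ (famι SX Ω.1)))
    have : IsProper (X := D'.U.scheme) (Y := D.U.scheme) (φ ∣_ O.1) :=
      inferInstanceAs (IsProper (φ ∣_ O.1))
    have e2 := congr($(T.res_push (X := X.res Ω.1) (X' := Y.res ΩY.1) D D' φΩ fZ (φ ∣_ O.1)
      (IsPullback.of_hasPullback φΩ (famι SX Ω.1)) (isPullback_restrict φ hOΩ) M i n i₂ n₂ i₁ n₁ i₂ n₂
      (by rw [cY']; omega) (by rw [cY']; omega) hp hp'
      (by rw [show relCodim D'.Z.scheme D.Z.scheme = 0 from cfZ]; ring)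
      (by rw [show relCodim D'.Z.scheme D.Z.scheme = 0 from cfZ]; ring)
      (by rw [cX]; omega) (by rw [cX]; omega)).hom β)
    refine e2.symm.trans ?_
    refine (congrArg (T.push fZ M i₂ n₂ i₂ n₂ (by rw [cfZ]; ring) (by rw [cfZ]; ring)).hom e1).symm.trans ?_
    refine (push_push T k fZ h rfl M i₂ n₂ i₂ n₂ i₂ n₂ (by rw [ck]; ring) (by rw [ck]; ring)
      (by rw [cfZ]; ring) (by rw [cfZ]; ring) (by rw [ch]; ring) (by rw [ch]; ring) _).trans ?_
    exact congrArg (fun z => (T.push h M i₂ n₂ i₂ n₂ _ _).hom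
      ((T.res D'' M i n i₂ n₂ _ _).hom z)) (pull_id T (X := Y.res OY.1) M i n β)
  -- the maps between the pieces
  let ty : SY → SX := fun y => ⟨t y.1, hSt y.1 y.2⟩
  have hΩY_mem : ∀ y : SY, y.1.1 ∈ ΩY.1 := fun y => ΩY.2.1 _ y.1.2.le
  have hex : ∀ y : SY, ∃ f : ((Y.ptSub y.1.1).res (ptPre Y y.1.1 ΩY.1)).scheme ⟶
      ((X.ptSub (t y.1).1).res (ptPre X (t y.1).1 Ω.1)).scheme,
      IsProper f ∧ f ≫ (g (ty y)).hom = (g' y).hom ≫ h := by
    intro y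
    have hsub : Set.range ((g' y).hom ≫ h) ⊆ Set.range (g (ty y)).hom := by
      rintro _ ⟨p, rfl⟩
      obtain ⟨x', hx'⟩ := Set.mem_iUnion.mp (hgc.ge (Set.mem_univ (((g' y).hom ≫ h) p)))
      suffices x' = ty y by rwa [this] at hx'
      obtain ⟨p', hp'e⟩ := hx'
      have h1 : ((famι SX Ω.1) (((g' y).hom ≫ h) p)).1 =
          φ (Y.ptSubι y.1.1 ((ptPre Y y.1.1 ΩY.1).ι p)) := by
        change (((g' y).hom ≫ h) ≫ famι SX Ω.1 ≫ Ω.1.ι) p =
          ((ptPre Y y.1.1 ΩY.1).ι ≫ Y.ptSubι y.1.1 ≫ φ) p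
        refine congrArg (fun (m : _ ⟶ X.scheme) => m p) ?_
        rw [Category.assoc, reassoc_of% hh, ← Category.assoc, hg' y, morphismRestrict_ι,
          ← Category.assoc, ptMor_ι, Category.assoc]
      have h2 : ((famι SX Ω.1) ((g x').hom p')).1 =
          X.ptSubι x'.1.1 ((ptPre X x'.1.1 Ω.1).ι p') := by
        change ((g x').hom ≫ famι SX Ω.1 ≫ Ω.1.ι) p' = ((ptPre X x'.1.1 Ω.1).ι ≫ X.ptSubι _) p'
        refine congrArg (fun (m : _ ⟶ X.scheme) => m p') ?_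
        rw [← Category.assoc, hg x', ptMor_ι]
      rw [hp'e, h1] at h2
      by_contra hne'
      have hA : φ (Y.ptSubι y.1.1 ((ptPre Y y.1.1 ΩY.1).ι p)) ∈ closure ({(t y.1).1} : Set X.scheme) := by
        rw [← ht y.1, ← specializes_iff_mem_closure]
        refine Specializes.map ?_ φ.continuous
        rw [specializes_iff_mem_closure, ← range_ptSubι]
        exact ⟨_, rfl⟩
      have hB' : φ (Y.ptSubι y.1.1 ((ptPre Y y.1.1 ΩY.1).ι p)) ∈ closure ({x'.1.1} : Set X.scheme) := by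
        rw [h2, ← range_ptSubι]
        exact ⟨_, rfl⟩
      have hC : φ (Y.ptSubι y.1.1 ((ptPre Y y.1.1 ΩY.1).ι p)) ∈ LX.1 := by
        rw [← h1]
        exact ((famι SX Ω.1) (((g' y).hom ≫ h) p)).2.1
      exact (hdX x'.1 x'.2 (t y.1) (ty y).2 fun e => hne' (Subtype.ext e)).le ⟨hC, hB', hA⟩
    let f := IsOpenImmersion.lift (g (ty y)).hom ((g' y).hom ≫ h) hsub
    have hf : f ≫ (g (ty y)).hom = (g' y).hom ≫ h := IsOpenImmersion.lift_fac _ _ _
    have := hgp (ty y)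
    have := hgp' y
    have : IsProper (f ≫ (g (ty y)).hom) := by rw [hf]; infer_instance
    exact ⟨f, IsProper.of_comp f (g (ty y)).hom, hf⟩
  choose f hfp hf using hex
  have cf : ∀ y : SY, relCodim ((Y.ptSub y.1.1).res (ptPre Y y.1.1 ΩY.1)).scheme
      ((X.ptSub (t y.1).1).res (ptPre X (t y.1).1 Ω.1)).scheme = 0 := fun y => by
    have e1 : WeilCoh.dim ((X.ptSub (t y.1).1).res (ptPre X (t y.1).1 Ω.1)).scheme =
        WeilCoh.dim (famObj SX Ω.1).scheme := (g (ty y)).dim_eq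
    have e2 := (g' y).dim_eq
    simp only [relCodim, Obj.res_scheme] at e1 e2 ch ⊢
    omega
  let c : ∀ y : SY, T.gp ((Y.ptSub y.1.1).res (ptPre Y y.1.1 ΩY.1)) M i₂ n₂ :=
    fun y => (T.pull (g' y) M i₂ n₂).hom r
  let e : ∀ y : SY, T.gp ((X.ptSub (t y.1).1).res (ptPre X (t y.1).1 Ω.1)) M i₂ n₂ :=
    fun y => (T.push (f y) M i₂ n₂ i₂ n₂ (by rw [cf]; ring) (by rw [cf]; ring)).hom (c y)
  have hsumR : Rr = ∑ y : SY, (T.push (g (ty y)).hom M i₂ n₂ i₂ n₂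
      (by rw [relCodim_hom (g (ty y))]; ring) (by rw [relCodim_hom (g (ty y))]; ring)).hom (e y) := by
    rw [hR]
    conv_lhs => rw [← sum_push_pull T g' hgd' hgc' M i₂ n₂ r, map_sum]
    refine Finset.sum_congr rfl fun y _ => ?_
    have := hgp (ty y)
    have := hfp y
    have := hgp' y
    have : IsProper ((g' y).hom ≫ h) := inferInstance
    rw [push_push T (g' y).hom h ((g' y).hom ≫ h) rfl M i₂ n₂ i₂ n₂ i₂ n₂ _ _ _ _
      (by rw [show relCodim _ _ = (0 : ℤ) from by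
        have e2 := (g' y).dim_eq
        simp only [relCodim, Obj.res_scheme] at e2 ch ⊢
        omega]; ring)
      (by rw [show relCodim _ _ = (0 : ℤ) from by
        have e2 := (g' y).dim_eq
        simp only [relCodim, Obj.res_scheme] at e2 ch ⊢
        omega]; ring)]
    exact (push_push T (f y) (g (ty y)).hom ((g' y).hom ≫ h) (hf y) M i₂ n₂ i₂ n₂ i₂ n₂
      (by rw [cf]; ring) (by rw [cf]; ring) _ _ _ _ _).symm
  -- components
  let WX : ∀ x : SX, ptIdx X x.1.1 := fun x =>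
    mkPtIdx X (ptPre X x.1.1 Ω.1) (ptPre_nonempty X (hmemX x))
  let WY : ∀ y : SY, ptIdx Y y.1.1 := fun y =>
    mkPtIdx Y (ptPre Y y.1.1 ΩY.1) (ptPre_nonempty Y (hΩY_mem y))
  let clsX := cls T M i₁ n₁ O
    ((T.push (X := Y.res OY.1) (Y := X.res O.1) (φ ∣_ O.1) M i n i₁ n₁ hp hp').hom β)
  have keyX : ∀ x : SX, (Q.cpt x.1 M i₁ n₁ i₂ n₂ h2 h2').hom clsX =
      cls T M i₂ n₂ (WX x) ((T.pull (g x) M i₂ n₂).hom Rr) := fun x => by
    have k' := congr($(Q.cpt_spec x.1 M i₁ n₁ i₂ n₂ h2 h2' (X.resι Ω.1 Ω.2.2) D (WX x) (g x)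
      (by
        change (g x).hom ≫ famι SX Ω.1 ≫ Ω.1.ι = _
        rw [← Category.assoc, hg x, ptMor_ι])
      O (𝟙 _) ((Category.id_comp _).trans (X.scheme.homOfLE_ι hOΩ)) (by rw [cX]; omega)
      (by rw [cX]; omega)).hom
      ((T.push (X := Y.res OY.1) (Y := X.res O.1) (φ ∣_ O.1) M i n i₁ n₁ hp hp').hom β))
    exact (congrArg (fun z => (Q.cpt x.1 M i₁ n₁ i₂ n₂ h2 h2').hom (cls T M i₁ n₁ O z))
      (pull_id T (X := X.res O.1) M i₁ n₁ _)).symm.trans k'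
  have keyY : ∀ y : SY, (Q'.cpt y.1 M i n i₂ n₂ h4 h4').hom (cls T M i n OY β) =
      cls T M i₂ n₂ (WY y) (c y) := fun y => by
    have k' := congr($(Q'.cpt_spec y.1 M i n i₂ n₂ h4 h4' (Y.resι ΩY.1 ΩY.2.2) D'' (WY y) (g' y)
      (by
        change (g' y).hom ≫ famι SY ΩY.1 ≫ ΩY.1.ι = _
        rw [← Category.assoc, hg' y, ptMor_ι])
      OY (𝟙 _) ((Category.id_comp _).trans (Y.scheme.homOfLE_ι hOYΩ)) (by rw [cY]; omega)
      (by rw [cY]; omega)).hom β)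
    exact (congrArg (fun z => (Q'.cpt y.1 M i n i₂ n₂ h4 h4').hom (cls T M i n OY z))
      (pull_id T (X := Y.res OY.1) M i n β)).symm.trans k'
  have keyF : ∀ y : SY, ((F y.1).cpt M i₂ n₂).hom (cls T M i₂ n₂ (WY y) (c y)) =
      cls T M i₂ n₂ (WX (ty y)) (e y) := fun y => by
    have := hfp y
    refine congr($((F y.1).cpt_spec M i₂ n₂ (WY y) (WX (ty y)) (f y) ?_
      (by rw [cf]; ring) (by rw [cf]; ring)).hom (c y))
    change f y ≫ (ptPre X (t y.1).1 Ω.1).ι ≫ X.ptSubι (t y.1).1 = _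
    rw [← ptMor_ι, ← hg (ty y), Category.assoc, reassoc_of% (hf y), reassoc_of% hh,
      ← Category.assoc, hg' y, morphismRestrict_ι, ← Category.assoc, ptMor_ι, Category.assoc]
  rw [eq_sum_lof T SX M i₂ n₂ ((Q.tot M i₁ n₁ i₂ n₂ h2 h2').hom clsX) (fun x hx =>
      resData_cpt_eq_zero Q x O (not_not.mp fun h => hx ((hSX x).mpr h)) M i₁ n₁ i₂ n₂ h2 h2' _),
    eq_sum_lof T SY M i₂ n₂ ((Q'.tot M i n i₂ n₂ h4 h4').hom (cls T M i n OY β)) (fun y hy =>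
      resData_cpt_eq_zero Q' y OY (not_not.mp fun h => hy ((hSY y).mpr h)) M i n i₂ n₂ h4 h4' β),
    map_sum, ← Finset.sum_coe_sort SX, ← Finset.sum_coe_sort SY]
  have expand : ∀ x : SX,
      DirectSum.lof R (X.cdPt (q + 1)) (fun z : X.cdPt (q + 1) => T.ptGp X z.1 M i₂ n₂) x.1
        ((Q.tot M i₁ n₁ i₂ n₂ h2 h2').hom clsX x.1) =
      ∑ y : SY, DirectSum.lof R (X.cdPt (q + 1)) (fun z : X.cdPt (q + 1) => T.ptGp X z.1 M i₂ n₂) x.1
        (cls T M i₂ n₂ (WX x) ((T.pull (g x) M i₂ n₂).hom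
          ((T.push (g (ty y)).hom M i₂ n₂ i₂ n₂ (by rw [relCodim_hom (g (ty y))]; ring)
            (by rw [relCodim_hom (g (ty y))]; ring)).hom (e y)))) := fun x => by
    change DirectSum.lof R (X.cdPt (q + 1)) (fun z : X.cdPt (q + 1) => T.ptGp X z.1 M i₂ n₂) x.1
      ((Q.cpt x.1 M i₁ n₁ i₂ n₂ h2 h2').hom clsX) = _
    rw [keyX x, hsumR]
    simp only [cls, map_sum]
  refine (Finset.sum_congr rfl fun x _ => expand x).trans ?_
  rw [Finset.sum_comm]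
  refine Finset.sum_congr rfl fun y _ => ?_
  rw [Finset.sum_eq_single (ty y)]
  · refine Eq.trans ?_ (PreTheory.PtPush.famTot_lof t F M i₂ n₂ y.1 _).symm
    refine congrArg (DirectSum.lof R (X.cdPt (q + 1))
      (fun z : X.cdPt (q + 1) => T.ptGp X z.1 M i₂ n₂) (t y.1)) ?_
    refine Eq.trans ?_ (congrArg ((F y.1).cpt M i₂ n₂).hom (keyY y)).symm
    rw [keyF y]
    exact congrArg (cls T M i₂ n₂ (WX (ty y))) (pull_push_self T (g (ty y)) M i₂ n₂ _ _ (e y))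
  · intro x _ hx
    rw [pull_push_disjoint T (g x) (g (ty y)) (hgd hx) M i₂ n₂ _ _ (e y)]
    exact (congrArg _ (map_zero _)).trans (map_zero _)
  · simp

lemma resTot_pushCpt_ptPush (T : PreTheory V R A)
    (hred : ∀ (S : Obj V) (D D'' : Decomp S) (gU : D''.U ⟶ D.U)
      (k : D''.Z.scheme ⟶ D.Z.scheme) [IsClosedImmersion k] [AlgebraicGeometry.Surjective k],
      gU ≫ D.j = D''.j → k ≫ D.i = D''.i →
      ∀ (M : A.Cat) (i n i' n' : ℤ) (hi : i' = i + 1 - 2 * D.codim) (hn : n' = n - D.codim)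
        (hi'' : i' = i + 1 - 2 * D''.codim) (hn'' : n' = n - D''.codim)
        (hk : i' = i' + 2 * relCodim D''.Z.scheme D.Z.scheme)
        (hk' : n' = n' + relCodim D''.Z.scheme D.Z.scheme),
      T.pull gU M i n ≫ T.res D'' M i n i' n' hi'' hn'' ≫ T.push k M i' n' i' n' hk hk' =
        T.res D M i n i' n' hi hn)
    (X : Obj V) (q : ℕ) (w : X.cdPt q) (Y : Obj V) [IsIntegral Y.scheme]
    (φ : Y.scheme ⟶ X.scheme) [IsProper φ]
    (hη : WeilCoh.codim Y.scheme (genericPoint Y.scheme) = 0)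
    (P : T.PushData X q) (Q : T.ResData X q) (L : T.PtPush φ (genericPoint Y.scheme) w.1)
    (P' : T.PushData Y 0) (Q' : T.ResData Y 0) (t : Y.cdPt 1 → X.cdPt (q + 1))
    (F : ∀ y : Y.cdPt 1, T.PtPush φ y.1 (t y).1)
    (M : A.Cat) (i n i₁ n₁ i₂ n₂ i₃ n₃ : ℤ)
    (h1 : i₁ = i + 2 * (q : ℤ)) (h1' : n₁ = n + (q : ℤ))
    (h2 : i₂ = i₁ + 1 - 2 * ((q : ℤ) + 1)) (h2' : n₂ = n₁ - ((q : ℤ) + 1))
    (h3 : i₃ = i + 2 * ((0 : ℕ) : ℤ)) (h3' : n₃ = n + ((0 : ℕ) : ℤ))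
    (h4 : i₂ = i₃ + 1 - 2 * (((0 : ℕ) : ℤ) + 1)) (h4' : n₂ = n₃ - (((0 : ℕ) : ℤ) + 1))
    (a : T.ptGp Y (genericPoint Y.scheme) M i n) :
    (Q.tot M i₁ n₁ i₂ n₂ h2 h2').hom ((P.cpt w M i n i₁ n₁ h1 h1').hom ((L.cpt M i n).hom a)) =
      (PreTheory.PtPush.famTot t F M i₂ n₂).hom
        ((Q'.tot M i₃ n₃ i₂ n₂ h4 h4').hom
          ((P'.cpt ⟨genericPoint Y.scheme, hη⟩ M i n i₃ n₃ h3 h3').hom a)) := by
  obtain rfl : i₃ = i := by simpa using h3
  obtain rfl : n₃ = n := by simpa using h3'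
  let η : Y.cdPt 0 := ⟨genericPoint Y.scheme, hη⟩
  obtain ⟨g, _, hg⟩ := exists_ptMap L
  have := nonempty_ptIdx Y η.1
  obtain ⟨W, b₀, rfl⟩ := exists_rep T M i₃ n₃ (dir_pt Y η.1) a
  obtain ⟨W', hW'⟩ := exists_small L g hg W
  obtain ⟨O, hwO, hO, hOc, hOW⟩ := exists_ptPre_eq X w.1 W'.1 W'.2.1
  let O' := mkIdx X O (by rw [w.2] at hO; exact hO)
  have hdY : WeilCoh.dim Y.scheme + q = WeilCoh.dim X.scheme := by
    have h := L.codim_eq
    change (WeilCoh.dim (X.ptSub w.1).scheme : ℤ) -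
      (WeilCoh.dim (Y.ptSub (genericPoint Y.scheme)).scheme : ℤ) = 0 at h
    rw [dim_ptSub, dim_ptSub] at h
    have := (codim_eq_iff Y _ _).mp hη
    have := (codim_eq_iff X _ _).mp w.2
    omega
  have hOY : ContainsFj Y 0 (φ ⁻¹ᵁ O) := by
    intro y hy
    have he : genericPoint Y.scheme = y := by
      by_contra hne
      have := pdim_lt Y (genericPoint_specializes y) hne
      have := pdim_le_dim Y (genericPoint Y.scheme)
      simp only [WeilCoh.codim] at hy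
      omega
    subst he
    change φ (genericPoint Y.scheme) ∈ O
    rw [show φ (genericPoint Y.scheme) = w.1 from L.maps_pt]
    exact hwO
  have hsurj : (O : Set X.scheme)ᶜ ⊆ Set.range φ := by
    refine (Set.compl_subset_comm.mp hOc).trans (closure_minimal ?_ φ.isClosedMap.isClosed_range)
    exact Set.singleton_subset_iff.mpr ⟨_, L.maps_pt⟩
  let OY := mkIdx Y (φ ⁻¹ᵁ O) hOY
  let Wη := mkPtIdx Y (ptPre Y η.1 OY.1) (ptPre_nonempty Y (OY.2.1 _ η.2.le))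
  have hWη : Wη.1 ≤ g ⁻¹ᵁ W'.1 := fun p hp => by
    change g p ∈ W'.1
    rw [← hOW]
    change (g ≫ X.ptSubι w.1) p ∈ O
    rw [hg]
    exact hp
  let gW : ((Y.ptSub η.1).res (g ⁻¹ᵁ W'.1)).scheme ⟶ ((X.ptSub w.1).res W'.1).scheme := g ∣_ W'.1
  let f : ((Y.ptSub η.1).res Wη.1).scheme ⟶
      ((X.ptSub w.1).res (ptPre X w.1 O)).scheme :=
    (Y.ptSub η.1).scheme.homOfLE hWη ≫ (g ∣_ W'.1) ≫ (X.ptSub w.1).scheme.homOfLE hOW.ge
  have hf1 : f ≫ (ptPre X w.1 O).ι ≫ X.ptSubι w.1 = Wη.1.ι ≫ Y.ptSubι η.1 ≫ φ := by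
    simp only [f, Category.assoc]
    rw [Scheme.homOfLE_ι_assoc, morphismRestrict_ι_assoc, hg, Scheme.homOfLE_ι_assoc]
  let φO : (Y.res OY.1).scheme ⟶ (X.res O).scheme := φ ∣_ O
  have : IsProper φO := inferInstanceAs (IsProper (φ ∣_ O))
  have hf2 : f ≫ ptMor X w.1 O = ptMor Y η.1 OY.1 ≫ φO := by
    rw [← cancel_mono O.ι, Category.assoc, ptMor_ι, hf1, Category.assoc, morphismRestrict_ι,
      ← Category.assoc, ← Category.assoc, ptMor_ι]
  have : IsProper (ptMor Y η.1 OY.1 ≫ φO) := inferInstance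
  have : IsProper (f ≫ ptMor X w.1 O) := by rw [hf2]; infer_instance
  have : IsProper f := IsProper.of_comp f (ptMor X w.1 O)
  have hdW : WeilCoh.dim Wη.1.toScheme = WeilCoh.dim W.1.toScheme := Wη.2.2.trans W.2.2.symm
  let b := (T.pull ((Y.ptSub η.1).resLE (hWη.trans hW') hdW) M i₃ n₃).hom b₀
  rw [← cls_pull T M i₃ n₃ (U := Wη) (U' := W) (hWη.trans hW') hdW b₀]
  have c1 : relCodim ((Y.ptSub η.1).res Wη.1).scheme ((X.ptSub w.1).res (ptPre X w.1 O)).scheme = 0 := by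
    change (WeilCoh.dim (ptPre X w.1 O).toScheme : ℤ) - (WeilCoh.dim Wη.1.toScheme : ℤ) = 0
    rw [dim_ptSub_open X _ _ (ptPre_nonempty X hwO), Wη.2.2]
    exact L.codim_eq
  have c2 := relCodim_pt X w.1 w.2 hwO O'.2.2
  have c3 := relCodim_pt Y η.1 η.2 (OY.2.1 _ η.2.le) OY.2.2
  have c4 : relCodim (Y.res OY.1).scheme (X.res O).scheme = (q : ℤ) := by
    change (WeilCoh.dim O.toScheme : ℤ) - (WeilCoh.dim OY.1.toScheme : ℤ) = q
    rw [O'.2.2, OY.2.2]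
    omega
  have c5 : relCodim ((Y.ptSub η.1).res Wη.1).scheme (X.res O).scheme = (q : ℤ) := by
    simp only [relCodim] at c1 c2 ⊢
    omega
  have eL : (L.cpt M i₃ n₃).hom (cls T M i₃ n₃ Wη b) =
      cls T M i₃ n₃ (mkPtIdx X (ptPre X w.1 O) (ptPre_nonempty X hwO))
        ((T.push f M i₃ n₃ i₃ n₃ (by rw [c1]; ring) (by rw [c1]; ring)).hom b) :=
    congr($(L.cpt_spec M i₃ n₃ Wη (mkPtIdx X (ptPre X w.1 O) (ptPre_nonempty X hwO)) f hf1
      (by rw [c1]; ring) (by rw [c1]; ring)).hom b)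
  rw [eL, pushData_cpt_eq P w O' M i₃ n₃ i₁ n₁ h1 h1' (by rw [c2]; exact h1) (by rw [c2]; exact h1'),
    pushData_cpt_eq P' η OY M i₃ n₃ i₃ n₃ h3 h3' (by rw [c3]; exact h3) (by rw [c3]; exact h3') b]
  have e := resTot_push_eq T hred φ q hdY Q Q' t F O' hOY hsurj M i₃ n₃ i₁ n₁ i₂ n₂ h2 h2' h4 h4'
    (by rw [c4]; exact h1) (by rw [c4]; exact h1')
    ((T.push (ptMor Y η.1 OY.1) M i₃ n₃ i₃ n₃ (by rw [c3]; exact h3) (by rw [c3]; exact h3')).hom b)
  refine Eq.trans ?_ e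
  refine congrArg (fun z => (Q.tot M i₁ n₁ i₂ n₂ h2 h2').hom (cls T M i₁ n₁ O' z)) ?_
  rw [push_push T f (ptMor X w.1 O) (f ≫ ptMor X w.1 O) rfl M i₃ n₃ i₃ n₃ i₁ n₁ _ _ _ _
    (by rw [c5]; exact h1) (by rw [c5]; exact h1')]
  exact (push_push T (ptMor Y η.1 OY.1) φO (f ≫ ptMor X w.1 O) hf2.symm M i₃ n₃ i₃ n₃ i₁ n₁ _ _
    (by rw [c4]; exact h1) (by rw [c4]; exact h1') _ _ b).symm

end Groth.Agent.BMCoh
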