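import Groth.Prelude.Def_BMCoh4
import Groth.Agent.BMCoh.ClosedSub
import Groth.Agent.BMCoh.GenericIso
import Groth.Agent.BMCoh.Family

set_option autoImplicit false
set_option linter.unusedSectionVars false
universe u

open AlgebraicGeometry CategoryTheory CategoryTheory.Limits Opposite TopologicalSpace Topology BMCoh

noncomputable section

namespace Groth.Agent.BMCoh

lemma homOfLE_morphismRestrict {S S' : Scheme.{u}} (f : S ⟶ S') {O' O : S'.Opens} (h : O' ≤ O) :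
    S.homOfLE (f.preimage_mono h) ≫ (f ∣_ O) =
      (f ∣_ O') ≫ S'.homOfLE h := by
  rw [← cancel_mono O.ι, Category.assoc, morphismRestrict_ι, ← Category.assoc, Scheme.homOfLE_ι,
    Category.assoc, Scheme.homOfLE_ι, morphismRestrict_ι]

lemma isPullback_restrict {S S' : Scheme.{u}} (f : S ⟶ S') {O' O : S'.Opens} (h : O' ≤ O) :
    IsPullback (S.homOfLE (f.preimage_mono h)) (f ∣_ O') (f ∣_ O)
      (S'.homOfLE h) := by
  refine IsPullback.of_right ?_ (homOfLE_morphismRestrict f h) (isPullback_morphismRestrict f O).flip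
  rw [Scheme.homOfLE_ι, Scheme.homOfLE_ι]
  exact (isPullback_morphismRestrict f O').flip

lemma isIso_restrict_of_le {S S' : Scheme.{u}} (f : S ⟶ S') {O' O : S'.Opens} (h : O' ≤ O)
    [IsIso (f ∣_ O)] : IsIso (f ∣_ O') :=
  (isPullback_restrict f h).isIso_snd_of_isIso

variable {V : ObjectProperty Scheme.{u}} [IsConstructible V] {R : Type u} [CommRing R] {A : Coefs R}
  {T : PreTheory V R A} {X Y : Obj V} {φ : Y.scheme ⟶ X.scheme} [IsProper φ] {y : Y.scheme}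
  {x : X.scheme}

/-- Dimensions of closures do not increase under closed maps. -/
lemma pdim_le_of_isProper (φ : Y.scheme ⟶ X.scheme) [IsProper φ] (q : Y.scheme) :
    WeilCoh.pdim X.scheme (φ q) ≤ WeilCoh.pdim Y.scheme q := by
  induction h : WeilCoh.pdim X.scheme (φ q) using Nat.strong_induction_on generalizing q with
  | _ k ih =>
    subst h
    by_cases h0 : WeilCoh.pdim X.scheme (φ q) = 0
    · omega
    obtain ⟨p, hp⟩ := exists_ptSubι_eq X (φ q)
    have : Nonempty (X.ptSub (φ q)).scheme := ⟨p⟩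
    obtain ⟨r, hr⟩ := exists_pdim_eq (X.ptSub (φ q)) (k := WeilCoh.pdim X.scheme (φ q) - 1)
      (by rw [dim_ptSub]; omega)
    have hr' := pdim_closedImm (X := X) (X.ptSubι (φ q)) r
    rw [hr] at hr'
    have hrc : X.ptSubι (φ q) r ∈ φ '' closure {q} := by
      have hcl : IsClosed (φ '' closure {q}) := φ.isClosedMap _ isClosed_closure
      refine closure_minimal (Set.singleton_subset_iff.mpr
        (Set.mem_image_of_mem φ (subset_closure (Set.mem_singleton q)))) hcl ?_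
      rw [← range_ptSubι]
      exact ⟨r, rfl⟩
    obtain ⟨q', hq', hq'r⟩ := hrc
    have hne : q ≠ q' := by
      rintro rfl
      rw [← hq'r] at hr'
      omega
    have h1 := pdim_lt Y (specializes_iff_mem_closure.mpr hq') hne
    have h2 : WeilCoh.pdim X.scheme (φ q') ≤ WeilCoh.pdim Y.scheme q' :=
      ih _ (by rw [hq'r, hr']; omega) q' rfl
    rw [hq'r, hr'] at h2
    omega

variable (L : T.PtPush φ y x)

include L in
lemma exists_ptMap : ∃ g : (Y.ptSub y).scheme ⟶ (X.ptSub x).scheme,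
    IsProper g ∧ g ≫ X.ptSubι x = Y.ptSubι y ≫ φ := by
  let ψ := Y.ptSubι y ≫ φ
  have := isReduced_ptSub Y y
  have : Surjective (pullback.fst ψ (X.ptSubι x)) := by
    refine ⟨Set.range_eq_univ.mp (Set.eq_univ_of_forall fun p => ?_)⟩
    rw [AlgebraicGeometry.Scheme.Pullback.range_fst]
    change ψ p ∈ Set.range (X.ptSubι x)
    rw [range_ptSubι, ← specializes_iff_mem_closure, ← L.maps_pt]
    refine Specializes.map ?_ φ.continuous
    rw [specializes_iff_mem_closure, ← range_ptSubι]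
    exact ⟨p, rfl⟩
  have : IsClosedImmersion (pullback.fst ψ (X.ptSubι x)) := inferInstance
  have := isIso_of_isClosedImmersion_of_surjective (pullback.fst ψ (X.ptSubι x))
  have hg : (inv (pullback.fst ψ (X.ptSubι x)) ≫ pullback.snd _ _) ≫ X.ptSubι x = ψ := by
    simp [← pullback.condition]
  have : IsProper ((inv (pullback.fst ψ (X.ptSubι x)) ≫ pullback.snd _ _) ≫ X.ptSubι x) := by
    rw [hg]; infer_instance
  exact ⟨_, IsProper.of_comp _ (X.ptSubι x), hg⟩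

variable (g : (Y.ptSub y).scheme ⟶ (X.ptSub x).scheme) [IsProper g]
  (hg : g ≫ X.ptSubι x = Y.ptSubι y ≫ φ)

include L hg in
lemma map_mem_iff {p : (Y.ptSub y).scheme} (hp : Y.ptSubι y p = y) :
    X.ptSubι x (g p) = x := by
  change (g ≫ X.ptSubι x) p = x
  rw [hg]
  change φ (Y.ptSubι y p) = x
  rw [hp]
  exact L.maps_pt

include L hg in
lemma pre_nonempty (W' : ptIdx X x) : ((g ⁻¹ᵁ W'.1 : (Y.ptSub y).scheme.Opens) : Set (Y.ptSub y).scheme).Nonempty := by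
  obtain ⟨p, hp⟩ := exists_ptSubι_eq Y y
  exact ⟨p, mem_of_open_ptSub X W'.1 W'.2.1 (map_mem_iff L g hg hp)⟩

include L hg in
lemma exists_small (W : ptIdx Y y) : ∃ W' : ptIdx X x, g ⁻¹ᵁ W'.1 ≤ W.1 := by
  let G : Set (X.ptSub x).scheme := g '' (W.1 : Set (Y.ptSub y).scheme)ᶜ
  obtain ⟨p, hp⟩ := exists_ptSubι_eq X x
  have hpG : p ∉ G := by
    rintro ⟨q, hqW, rfl⟩
    have hφ : φ (Y.ptSubι y q) = x := by
      rw [show φ (Y.ptSubι y q) = (Y.ptSubι y ≫ φ) q from rfl, ← hg]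
      exact hp
    have hne : y ≠ Y.ptSubι y q := fun e => hqW (mem_of_open_ptSub Y W.1 W.2.1 e.symm)
    have hsp : y ⤳ Y.ptSubι y q := by
      rw [specializes_iff_mem_closure, ← range_ptSubι]
      exact ⟨q, rfl⟩
    have h1 := pdim_lt Y hsp hne
    have h2 := pdim_le_of_isProper φ (Y.ptSubι y q)
    rw [hφ] at h2
    have h3 := L.codim_eq
    change (WeilCoh.dim (X.ptSub x).scheme : ℤ) - (WeilCoh.dim (Y.ptSub y).scheme : ℤ) = 0 at h3
    rw [dim_ptSub, dim_ptSub] at h3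
    omega
  refine ⟨mkPtIdx X ⟨Gᶜ, (g.isClosedMap _ W.1.2.isClosed_compl).isOpen_compl⟩ ⟨p, hpG⟩,
    fun q hq => ?_⟩
  by_contra h
  exact hq ⟨q, h, rfl⟩

include L hg in
lemma relCodim_pre (W' : ptIdx X x) :
    relCodim ((Y.ptSub y).res (g ⁻¹ᵁ W'.1)).scheme ((X.ptSub x).res W'.1).scheme = 0 := by
  change (WeilCoh.dim W'.1.toScheme : ℤ) - (WeilCoh.dim (g ⁻¹ᵁ W'.1).toScheme : ℤ) = 0
  rw [W'.2.2, dim_ptSub_open Y y _ (pre_nonempty L g hg W')]
  exact L.codim_eq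

include hg in
lemma ptPush_cpt_eq (M : A.Cat) (i n : ℤ) (W' : ptIdx X x)
    (hi : i = i + 2 * relCodim ((Y.ptSub y).res (g ⁻¹ᵁ W'.1)).scheme ((X.ptSub x).res W'.1).scheme)
    (hn : n = n + relCodim ((Y.ptSub y).res (g ⁻¹ᵁ W'.1)).scheme ((X.ptSub x).res W'.1).scheme)
    (hne : ((g ⁻¹ᵁ W'.1 : (Y.ptSub y).scheme.Opens) : Set (Y.ptSub y).scheme).Nonempty)
    [IsProper (X := ((Y.ptSub y).res (g ⁻¹ᵁ W'.1)).scheme) (Y := ((X.ptSub x).res W'.1).scheme)
      (g ∣_ W'.1)]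
    (a : T.gp ((Y.ptSub y).res (g ⁻¹ᵁ W'.1)) M i n) :
    (L.cpt M i n).hom (cls T M i n (mkPtIdx Y (g ⁻¹ᵁ W'.1) hne) a) =
      cls T M i n W'
        ((T.push (X := (Y.ptSub y).res (g ⁻¹ᵁ W'.1)) (Y := (X.ptSub x).res W'.1) (g ∣_ W'.1)
          M i n i n hi hn).hom a) :=
  congr($(L.cpt_spec M i n (mkPtIdx Y (g ⁻¹ᵁ W'.1) hne) W' (g ∣_ W'.1)
    (by rw [← Category.assoc, morphismRestrict_ι, Category.assoc, hg]) hi hn).hom a)

lemma ptPush_subsingleton (T : PreTheory V R A) (φ : Y.scheme ⟶ X.scheme) [IsProper φ]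
    (y : Y.scheme) (x : X.scheme) : Subsingleton (T.PtPush φ y x) := by
  suffices key : ∀ (P P' : T.PtPush φ y x) (M : A.Cat) (i n : ℤ) (a : T.ptGp Y y M i n),
      (P.cpt M i n).hom a = (P'.cpt M i n).hom a by
    refine ⟨fun P P' => ?_⟩
    obtain ⟨h₁, h₂, c, hc⟩ := P
    obtain ⟨_, _, c', hc'⟩ := P'
    congr
    funext M i n
    ext a
    exact key ⟨h₁, h₂, c, hc⟩ ⟨h₁, h₂, c', hc'⟩ M i n a
  intro P P' M i n a
  obtain ⟨g, _, hg⟩ := exists_ptMap P
  have := nonempty_ptIdx Y y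
  obtain ⟨W, b, rfl⟩ := exists_rep T M i n (dir_pt Y y) a
  obtain ⟨W', hW⟩ := exists_small P g hg W
  have hne := pre_nonempty P g hg W'
  have hr := relCodim_pre P g hg W'
  have : IsProper (X := ((Y.ptSub y).res (g ⁻¹ᵁ W'.1)).scheme)
      (Y := ((X.ptSub x).res W'.1).scheme) (g ∣_ W'.1) :=
    inferInstanceAs (IsProper (g ∣_ W'.1))
  rw [← cls_pull T M i n (U := mkPtIdx Y (g ⁻¹ᵁ W'.1) hne) (U' := W) hW
    ((dim_ptSub_open Y y _ hne).trans W.2.2.symm) b,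
    ptPush_cpt_eq P g hg M i n W' (by omega) (by omega) hne,
    ptPush_cpt_eq P' g hg M i n W' (by omega) (by omega) hne]

include hg in
lemma cpt_bijective_of_isIso (U : (X.ptSub x).scheme.Opens) (hU : (U : Set (X.ptSub x).scheme).Nonempty)
    [IsIso (g ∣_ U)] (M : A.Cat) (i n : ℤ) : Function.Bijective (L.cpt M i n).hom := by
  have := nonempty_ptIdx Y y
  have := nonempty_ptIdx X x
  have hsmall : ∀ W' : ptIdx X x, ∃ W'' : ptIdx X x, W''.1 ≤ W'.1 ∧ IsIso (g ∣_ W''.1) := by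
    intro W'
    obtain ⟨W'', h₁, h₂⟩ := dir_pt X x W' (mkPtIdx X U hU)
    exact ⟨W'', h₁, isIso_restrict_of_le g h₂⟩
  have hprop : ∀ W' : ptIdx X x, IsProper (X := ((Y.ptSub y).res (g ⁻¹ᵁ W'.1)).scheme)
      (Y := ((X.ptSub x).res W'.1).scheme) (g ∣_ W'.1) :=
    fun W' => inferInstanceAs (IsProper (g ∣_ W'.1))
  have hbij : ∀ W' : ptIdx X x, IsIso (g ∣_ W'.1) → ∀ (h₁ h₂), Function.Bijective
      (T.push (X := (Y.ptSub y).res (g ⁻¹ᵁ W'.1)) (Y := (X.ptSub x).res W'.1) (g ∣_ W'.1)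
        M i n i n h₁ h₂).hom := by
    intro W' _ h₁ h₂
    have hr := relCodim_pre L g hg W'
    have hr' : relCodim ((X.ptSub x).res W'.1).scheme ((Y.ptSub y).res (g ⁻¹ᵁ W'.1)).scheme = 0 := by
      simp only [relCodim] at hr ⊢
      omega
    let f' : ((X.ptSub x).res W'.1).scheme ⟶ ((Y.ptSub y).res (g ⁻¹ᵁ W'.1)).scheme := inv (g ∣_ W'.1)
    have : IsProper f' := inferInstanceAs (IsProper (inv (g ∣_ W'.1)))
    refine Function.bijective_iff_has_inverse.mpr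
      ⟨(T.push f' M i n i n (by omega) (by omega)).hom, fun a => ?_, fun a => ?_⟩
    · rw [push_push T _ f' (𝟙 _) (IsIso.hom_inv_id (g ∣_ W'.1)) M i n i n i n _ _ _ _
        (by simp [relCodim]) (by simp [relCodim]), T.push_id]
      rfl
    · rw [push_push T f' _ (𝟙 _) (IsIso.inv_hom_id (g ∣_ W'.1)) M i n i n i n _ _ _ _
        (by simp [relCodim]) (by simp [relCodim]), T.push_id]
      rfl
  have hr := fun W' => relCodim_pre L g hg W'
  have hne := fun W' => pre_nonempty L g hg W'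
  refine ⟨(injective_iff_map_eq_zero _).mpr fun a ha => ?_, fun c => ?_⟩
  · obtain ⟨W, b, rfl⟩ := exists_rep T M i n (dir_pt Y y) a
    obtain ⟨W₀, hW₀⟩ := exists_small L g hg W
    rw [← cls_pull T M i n (U := mkPtIdx Y (g ⁻¹ᵁ W₀.1) (hne W₀)) (U' := W) hW₀
      ((dim_ptSub_open Y y _ (hne W₀)).trans W.2.2.symm) b] at ha ⊢
    rw [ptPush_cpt_eq L g hg M i n W₀ (by rw [hr]; ring) (by rw [hr]; ring) (hne W₀)] at ha
    obtain ⟨W₁, hW₁, hz⟩ := exists_pull_eq_zero T M i n (dir_pt X x) ha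
    obtain ⟨W₂, hW₂, hiso⟩ := hsmall W₁
    have hd : WeilCoh.dim (g ⁻¹ᵁ W₂.1).toScheme = WeilCoh.dim (g ⁻¹ᵁ W₀.1).toScheme :=
      (dim_ptSub_open Y y _ (hne W₂)).trans (dim_ptSub_open Y y _ (hne W₀)).symm
    have hle : g ⁻¹ᵁ W₂.1 ≤ g ⁻¹ᵁ W₀.1 := g.preimage_mono (hW₂.trans hW₁)
    rw [← cls_pull T M i n (U := mkPtIdx Y (g ⁻¹ᵁ W₂.1) (hne W₂))
      (U' := mkPtIdx Y (g ⁻¹ᵁ W₀.1) (hne W₀)) hle hd]
    refine (congrArg (cls T M i n (mkPtIdx Y (g ⁻¹ᵁ W₂.1) (hne W₂))) ?_).trans (map_zero _)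
    refine (hbij W₂ hiso (by rw [hr]; ring) (by rw [hr]; ring)).1 ?_
    rw [map_zero]
    refine (congr($(T.push_pull (X := (Y.ptSub y).res (g ⁻¹ᵁ W₀.1)) (Y := (X.ptSub x).res W₀.1)
      (X' := (Y.ptSub y).res (g ⁻¹ᵁ W₂.1)) (Y' := (X.ptSub x).res W₂.1) (g ∣_ W₀.1) (g ∣_ W₂.1)
      ((X.ptSub x).resLE (hW₂.trans hW₁) (W₂.2.2.trans W₀.2.2.symm))
      ((Y.ptSub y).resLE hle hd) (isPullback_restrict g (hW₂.trans hW₁)) M i n i n
      (by rw [hr]; ring) (by rw [hr]; ring) (by rw [hr]; ring) (by rw [hr]; ring)).hom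
      ((T.pull ((Y.ptSub y).resLE hW₀ ((dim_ptSub_open Y y _ (hne W₀)).trans W.2.2.symm)) M i n).hom
        b))).symm.trans ?_
    exact (pull_resLE_resLE T (X.ptSub x) hW₂ hW₁ (W₂.2.2.trans W₁.2.2.symm)
      (W₁.2.2.trans W₀.2.2.symm) M i n _).symm.trans ((congrArg _ hz).trans (map_zero _))
  · obtain ⟨W, b, rfl⟩ := exists_rep T M i n (dir_pt X x) c
    obtain ⟨W₂, hW₂, hiso⟩ := hsmall W
    obtain ⟨a, ha⟩ := (hbij W₂ hiso (by rw [hr]; ring) (by rw [hr]; ring)).2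
      ((T.pull ((X.ptSub x).resLE hW₂ (W₂.2.2.trans W.2.2.symm)) M i n).hom b)
    refine ⟨cls T M i n (mkPtIdx Y (g ⁻¹ᵁ W₂.1) (hne W₂)) a, ?_⟩
    rw [ptPush_cpt_eq L g hg M i n W₂ (by rw [hr]; ring) (by rw [hr]; ring) (hne W₂), ha]
    exact cls_pull T M i n hW₂ _ b

lemma cpt_bijective_normalization (T : PreTheory V R A) (X : Obj V) (w : X.scheme)
    [IsIntegral (X.ptSub w).scheme]
    [QuasiCompact ((X.ptSub w).scheme.fromSpecStalk (genericPoint (X.ptSub w).scheme))]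
    [QuasiSeparated ((X.ptSub w).scheme.fromSpecStalk (genericPoint (X.ptSub w).scheme))]
    (Y : Obj V) [IsIntegral Y.scheme]
    (e : Y.scheme ≅ Curv2.normalization (X.ptSub w).scheme)
    (φ : Y.scheme ⟶ X.scheme) [IsProper φ]
    (hφ : φ = e.hom ≫ Curv2.normalizationι (X.ptSub w).scheme ≫ X.ptSubι w)
    (L : T.PtPush φ (genericPoint Y.scheme) w) (M : A.Cat) (i n : ℤ) :
    Function.Bijective (L.cpt M i n).hom := by
  have : IsIso (Y.ptSubι (genericPoint Y.scheme)) := by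
    have : Surjective (Y.ptSubι (genericPoint Y.scheme)) :=
      ⟨Set.range_eq_univ.mp ((range_ptSubι Y _).trans (genericPoint_spec Y.scheme))⟩
    exact isIso_of_isClosedImmersion_of_surjective _
  let q : Y.scheme ⟶ (X.ptSub w).scheme := e.hom ≫ Curv2.normalizationι (X.ptSub w).scheme
  have hq : q ≫ X.ptSubι w = φ := by rw [hφ]; exact Category.assoc _ _ _
  have : IsProper (q ≫ X.ptSubι w) := by rw [hq]; infer_instance
  have : IsProper q := IsProper.of_comp q (X.ptSubι w)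
  let ν : Spec (X.ptSub w).scheme.functionField ⟶ Curv2.normalization (X.ptSub w).scheme :=
    Scheme.Hom.toNormalization ((X.ptSub w).scheme.fromSpecStalk (genericPoint (X.ptSub w).scheme))
  have : IsDominant ν := by
    dsimp [ν, Curv2.normalization]
    infer_instance
  have hξ : (ν ≫ e.inv) ≫ q = (X.ptSub w).scheme.fromSpecStalk _ := by
    simp only [q, Category.assoc, Iso.inv_hom_id_assoc]
    exact Scheme.Hom.toNormalization_fromNormalization _
  obtain ⟨U, hU, hiso⟩ := exists_isIso_restrict q (ν ≫ e.inv) hξ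
  let g := Y.ptSubι (genericPoint Y.scheme) ≫ q
  have : IsIso (g ∣_ U) := by
    rw [morphismRestrict_comp]
    have h1 : IsIso (Y.ptSubι (genericPoint Y.scheme) ∣_ (q ⁻¹ᵁ U)) := inferInstance
    exact @IsIso.comp_isIso _ _ _ _ _ _ _ h1 hiso
  exact cpt_bijective_of_isIso L g (by rw [Category.assoc, hq]) U ⟨_, hU⟩ M i n

end Groth.Agent.BMCoh
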