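import Groth.Prelude.Def_BMCoh3
import Groth.Agent.BMCoh.Basic

set_option autoImplicit false
set_option linter.unusedSectionVars false
universe u

open AlgebraicGeometry CategoryTheory CategoryTheory.Limits Opposite TopologicalSpace Topology BMCoh

noncomputable section

namespace Groth.Agent.BMCoh

variable {V : ObjectProperty Scheme.{u}} [IsConstructible V] {R : Type u} [CommRing R] {A : Coefs R}
  (T : PreTheory V R A)

section Functoriality

lemma pull_pull {X Y Z : Obj V} (f : X ⟶ Y) (g : Y ⟶ Z) (M : A.Cat) (i n : ℤ) (a : T.gp Z M i n) :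
    (T.pull f M i n).hom ((T.pull g M i n).hom a) = (T.pull (f ≫ g) M i n).hom a := by
  simp only [PreTheory.pull, op_comp, Functor.map_comp, NatTrans.comp_app, ModuleCat.hom_comp]
  rfl

lemma pull_id {X : Obj V} (M : A.Cat) (i n : ℤ) (a : T.gp X M i n) :
    (T.pull (𝟙 X) M i n).hom a = a := by
  simp only [PreTheory.pull, op_id, CategoryTheory.Functor.map_id, NatTrans.id_app]
  rfl

lemma hom_ext' {X : Obj V} {U U' : Obj V} (f g : U ⟶ U') (e : U' ⟶ X)
    (h : f.hom ≫ e.hom = g.hom ≫ e.hom) : f = g := by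
  have := e.isOpenImmersion
  exact BMCoh.Hom.ext ((cancel_mono e.hom).mp h)

lemma resLE_comp (X : Obj V) {U U' U'' : X.scheme.Opens} (h : U ≤ U') (h' : U' ≤ U'')
    (hd : WeilCoh.dim U.toScheme = WeilCoh.dim U'.toScheme)
    (hd' : WeilCoh.dim U'.toScheme = WeilCoh.dim U''.toScheme) :
    X.resLE h hd ≫ X.resLE h' hd' = X.resLE (h.trans h') (hd.trans hd') :=
  BMCoh.Hom.ext (Scheme.homOfLE_homOfLE _ h h')

lemma resLE_rfl (X : Obj V) (U : X.scheme.Opens) (h : U ≤ U)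
    (hd : WeilCoh.dim U.toScheme = WeilCoh.dim U.toScheme) : X.resLE h hd = 𝟙 (X.res U) :=
  BMCoh.Hom.ext (Scheme.homOfLE_rfl _ _)

lemma pull_resLE_resLE (X : Obj V) {U U' U'' : X.scheme.Opens} (h : U ≤ U') (h' : U' ≤ U'')
    (hd : WeilCoh.dim U.toScheme = WeilCoh.dim U'.toScheme)
    (hd' : WeilCoh.dim U'.toScheme = WeilCoh.dim U''.toScheme) (M : A.Cat) (i n : ℤ)
    (a : T.gp (X.res U'') M i n) :
    (T.pull (X.resLE h hd) M i n).hom ((T.pull (X.resLE h' hd') M i n).hom a) =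
      (T.pull (X.resLE (h.trans h') (hd.trans hd')) M i n).hom a := by
  rw [pull_pull, resLE_comp]

end Functoriality

section Exactness

variable {X : Obj V} (D : Decomp X) (M : A.Cat)

lemma res_pull_j (i n i' n' : ℤ) (hi : i' = i + 1 - 2 * D.codim) (hn : n' = n - D.codim)
    (a : T.gp X M i n) : (T.res D M i n i' n' hi hn).hom ((T.pull D.j M i n).hom a) = 0 :=
  (T.exact_pull_res D M i n i' n' hi hn).apply_apply_eq_zero a

lemma exists_of_res_eq_zero (i n i' n' : ℤ) (hi : i' = i + 1 - 2 * D.codim)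
    (hn : n' = n - D.codim) (b : T.gp D.U M i n) (hb : (T.res D M i n i' n' hi hn).hom b = 0) :
    ∃ a, (T.pull D.j M i n).hom a = b :=
  (T.exact_pull_res D M i n i' n' hi hn b).mp hb

lemma pull_j_push (i n i' n' : ℤ) (hi : i = i' + 2 * relCodim D.Z.scheme X.scheme)
    (hn : n = n' + relCodim D.Z.scheme X.scheme) (c : T.gp D.Z M i' n') :
    (T.pull D.j M i n).hom ((T.push D.i M i' n' i n hi hn).hom c) = 0 := by
  obtain ⟨i₀, rfl⟩ : ∃ i₀, i = i₀ + 1 := ⟨i - 1, by omega⟩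
  exact (T.exact_push_pull D M i₀ n i' n' hi hn).apply_apply_eq_zero c

lemma exists_of_pull_j_eq_zero (i n i' n' : ℤ) (hi : i = i' + 2 * relCodim D.Z.scheme X.scheme)
    (hn : n = n' + relCodim D.Z.scheme X.scheme) (a : T.gp X M i n)
    (ha : (T.pull D.j M i n).hom a = 0) : ∃ c, (T.push D.i M i' n' i n hi hn).hom c = a := by
  obtain ⟨i₀, rfl⟩ : ∃ i₀, i = i₀ + 1 := ⟨i - 1, by omega⟩
  exact (T.exact_push_pull D M i₀ n i' n' hi hn a).mp ha

lemma push_res (i n i' n' : ℤ) (hi : i' = i + 1 - 2 * D.codim) (hn : n' = n - D.codim)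
    (hi' : i + 1 = i' + 2 * relCodim D.Z.scheme X.scheme)
    (hn' : n = n' + relCodim D.Z.scheme X.scheme) (b : T.gp D.U M i n) :
    (T.push D.i M i' n' (i + 1) n hi' hn').hom ((T.res D M i n i' n' hi hn).hom b) = 0 :=
  (T.exact_res_push D M i n i' n' hi hn hi' hn').apply_apply_eq_zero b

lemma exists_of_push_eq_zero (i n i' n' : ℤ) (hi : i' = i + 1 - 2 * D.codim)
    (hn : n' = n - D.codim) (hi' : i + 1 = i' + 2 * relCodim D.Z.scheme X.scheme)
    (hn' : n = n' + relCodim D.Z.scheme X.scheme) (c : T.gp D.Z M i' n')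
    (hc : (T.push D.i M i' n' (i + 1) n hi' hn').hom c = 0) :
    ∃ b, (T.res D M i n i' n' hi hn).hom b = c :=
  (T.exact_res_push D M i n i' n' hi hn hi' hn' c).mp hc

end Exactness

section Colimit

variable {X : Obj V} {P : X.scheme.Opens → Prop} (M : A.Cat) (i n : ℤ)

lemma isFiltered_idx [Nonempty (Idx X P)]
    (hdir : ∀ U U' : Idx X P, ∃ U'' : Idx X P, U'' ≤ U ∧ U'' ≤ U') : IsFiltered (Idx X P)ᵒᵖ :=
  { cocone_objs := fun U U' =>
      let ⟨U'', h, h'⟩ := hdir U.unop U'.unop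
      ⟨op U'', (homOfLE h).op, (homOfLE h').op, trivial⟩
    cocone_maps := fun U U' f g => ⟨U', 𝟙 _, by
      rw [Subsingleton.elim f.unop g.unop |> Quiver.Hom.unop_inj]⟩
    nonempty := ⟨op (Classical.arbitrary _)⟩ }

/-- The class of `b` in the open-system colimit. -/
abbrev cls (U : Idx X P) (b : T.gp (X.res U.1) M i n) : (T.ocolim X P i n).obj M :=
  ((T.ocolimι X P i n U).app M).hom b

lemma cls_pull {U U' : Idx X P} (h : U.1 ≤ U'.1)
    (hd : WeilCoh.dim U.1.toScheme = WeilCoh.dim U'.1.toScheme) (b : T.gp (X.res U'.1) M i n) :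
    cls T M i n U ((T.pull (X.resLE h hd) M i n).hom b) = cls T M i n U' b :=
  congr($(NatTrans.congr_app
    (colimit.w ((idxDiag X P).op ⋙ T.H i n) (show U ⟶ U' from homOfLE h).op) M).hom b)

set_option linter.unusedSectionVars false in
lemma exists_rep [Nonempty (Idx X P)]
    (hdir : ∀ U U' : Idx X P, ∃ U'' : Idx X P, U'' ≤ U ∧ U'' ≤ U')
    (a : (T.ocolim X P i n).obj M) : ∃ U b, cls T M i n U b = a := by
  have := isFiltered_idx hdir
  obtain ⟨U, b, hb⟩ := Concrete.isColimit_exists_rep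
    (((idxDiag X P).op ⋙ T.H i n) ⋙ (evaluation _ _).obj M)
    (isColimitOfPreserves ((evaluation _ _).obj M) (colimit.isColimit _)) a
  exact ⟨U.unop, b, hb⟩

lemma exists_pull_eq [Nonempty (Idx X P)]
    (hdir : ∀ U U' : Idx X P, ∃ U'' : Idx X P, U'' ≤ U ∧ U'' ≤ U')
    {U U' : Idx X P} {b : T.gp (X.res U.1) M i n} {b' : T.gp (X.res U'.1) M i n}
    (h : cls T M i n U b = cls T M i n U' b') :
    ∃ (U'' : Idx X P) (h₁ : U''.1 ≤ U.1) (h₂ : U''.1 ≤ U'.1),
      (T.pull (X.resLE h₁ (U''.2.2.trans U.2.2.symm)) M i n).hom b =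
        (T.pull (X.resLE h₂ (U''.2.2.trans U'.2.2.symm)) M i n).hom b' := by
  have := isFiltered_idx hdir
  obtain ⟨U'', f, g, e⟩ := Concrete.isColimit_exists_of_rep_eq
    (((idxDiag X P).op ⋙ T.H i n) ⋙ (evaluation _ _).obj M)
    (isColimitOfPreserves ((evaluation _ _).obj M) (colimit.isColimit _))
    (i := op U) (j := op U') b b' h
  exact ⟨U''.unop, f.unop.le, g.unop.le, e⟩

lemma exists_pull_eq_zero [Nonempty (Idx X P)]
    (hdir : ∀ U U' : Idx X P, ∃ U'' : Idx X P, U'' ≤ U ∧ U'' ≤ U')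
    {U : Idx X P} {b : T.gp (X.res U.1) M i n} (h : cls T M i n U b = 0) :
    ∃ (U'' : Idx X P) (h₁ : U''.1 ≤ U.1),
      (T.pull (X.resLE h₁ (U''.2.2.trans U.2.2.symm)) M i n).hom b = 0 := by
  obtain ⟨U'', h₁, _, e⟩ := exists_pull_eq T M i n hdir (U := U) (U' := U) (b' := 0)
    (h.trans (map_zero _).symm)
  exact ⟨U'', h₁, e.trans (map_zero _)⟩

lemma cls_map {Q : X.scheme.Opens → Prop} (h : ∀ U, P U → Q U) (U : Idx X P)
    (b : T.gp (X.res U.1) M i n) :
    ((T.ocolimMap X h i n).app M).hom (cls T M i n U b) =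
      cls T M i n (⟨U.1, h _ U.2.1, U.2.2⟩ : Idx X Q) b :=
  congr($(NatTrans.congr_app
    (colimit.ι_pre ((idxDiag X Q).op ⋙ T.H i n) (idxIncl X h).op (op U)) M).hom b)

end Colimit

section Index

variable (X : Obj V)

instance (j : ℕ) : Nonempty (Idx X (ContainsFj X j)) :=
  ⟨mkIdx X ⊤ fun _ _ => trivial⟩

lemma dir_fj (j : ℕ) (U U' : Idx X (ContainsFj X j)) :
    ∃ U'' : Idx X (ContainsFj X j), U'' ≤ U ∧ U'' ≤ U' :=
  ⟨mkIdx X (U.1 ⊓ U'.1) fun y hy => ⟨U.2.1 y hy, U'.2.1 y hy⟩, inf_le_left (b := U'.1),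
    inf_le_right (a := U.1)⟩

lemma nonempty_ptIdx (x : X.scheme) : Nonempty (ptIdx X x) :=
  ⟨mkPtIdx X ⊤ ⟨(exists_ptSubι_eq X x).choose, trivial⟩⟩

lemma dir_pt (x : X.scheme) (W W' : ptIdx X x) : ∃ W'' : ptIdx X x, W'' ≤ W ∧ W'' ≤ W' := by
  obtain ⟨p, hp⟩ := exists_ptSubι_eq X x
  exact ⟨mkPtIdx X (W.1 ⊓ W'.1)
    ⟨p, mem_of_open_ptSub X W.1 W.2.1 hp, mem_of_open_ptSub X W'.1 W'.2.1 hp⟩,
    inf_le_left (b := W'.1), inf_le_right (a := W.1)⟩

end Index

section Point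

variable (X : Obj V) (x : X.scheme)

/-- Restricting the closed immersion of the closure of a point to an open. -/
instance isClosedImmersion_ptSubι_restrict (Y : X.scheme.Opens) :
    IsClosedImmersion (X.ptSubι x ∣_ Y) :=
  IsZariskiLocalAtTarget.restrict (P := @IsClosedImmersion) inferInstance Y

lemma ptPre_mono {Y' Y : X.scheme.Opens} (h : Y' ≤ Y) : ptPre X x Y' ≤ ptPre X x Y :=
  fun _ hp => h hp

/-- The inclusion of the trace of `Y` on the closure of `x`. -/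
abbrev ptMor (Y : X.scheme.Opens) :
    ((X.ptSub x).res (ptPre X x Y)).scheme ⟶ (X.res Y).scheme :=
  X.ptSubι x ∣_ Y

instance isProper_ptMor (Y : X.scheme.Opens) : IsProper (ptMor X x Y) :=
  have := isClosedImmersion_ptSubι_restrict X x Y
  inferInstanceAs (IsProper (X.ptSubι x ∣_ Y))

lemma ptMor_ι (Y : X.scheme.Opens) :
    ptMor X x Y ≫ Y.ι = (ptPre X x Y).ι ≫ X.ptSubι x :=
  morphismRestrict_ι _ _

lemma homOfLE_ptMor {Y' Y : X.scheme.Opens} (h : Y' ≤ Y) :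
    (X.ptSub x).scheme.homOfLE (ptPre_mono X x h) ≫ ptMor X x Y =
      ptMor X x Y' ≫ X.scheme.homOfLE h := by
  rw [← cancel_mono Y.ι, Category.assoc, ptMor_ι, ← Category.assoc, Scheme.homOfLE_ι,
    Category.assoc, Scheme.homOfLE_ι, ptMor_ι]

lemma isPullback_ptMor {Y' Y : X.scheme.Opens} (h : Y' ≤ Y) :
    IsPullback ((X.ptSub x).scheme.homOfLE (ptPre_mono X x h))
      (ptMor X x Y') (ptMor X x Y) (X.scheme.homOfLE h) := by
  have h₁ : IsPullback (ptPre X x Y).ι (ptMor X x Y) (X.ptSubι x) Y.ι :=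
    (isPullback_morphismRestrict (X.ptSubι x) Y).flip
  refine IsPullback.of_right ?_ (homOfLE_ptMor X x h) h₁
  rw [Scheme.homOfLE_ι, Scheme.homOfLE_ι]
  exact (isPullback_morphismRestrict (X.ptSubι x) Y').flip

/-- The decomposition of `Y` into the trace of the closure of `x` and the rest. -/
def ptDecomp (Y U : X.scheme.Opens) (h : (Y : Set X.scheme) ∩ (closure {x})ᶜ = U)
    (hd : WeilCoh.dim U.toScheme = WeilCoh.dim Y.toScheme) : Decomp (X.res Y) where
  Z := (X.ptSub x).res (ptPre X x Y)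
  U := X.res U
  i := ptMor X x Y
  closedImm := isClosedImmersion_ptSubι_restrict X x Y
  j := X.resLE (fun y hy => (h.ge hy).1) hd
  range_eq := by
    have e₁ : Set.range (ptMor X x Y) = Subtype.val ⁻¹' (closure {x} : Set X.scheme) := by
      rw [← range_ptSubι]
      erw [morphismRestrict_base]
      exact Set.range_restrictPreimage _ _
    change Set.range (X.scheme.homOfLE (fun y hy => (h.ge hy).1 : U ≤ Y)) =
      (Set.range (ptMor X x Y))ᶜ
    rw [e₁]
    ext y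
    constructor
    · rintro ⟨z, rfl⟩
      have hz := h.ge z.2
      intro hm
      have e : (X.scheme.homOfLE (fun y hy => (h.ge hy).1 : U ≤ Y) z).1 = z.1 := Scheme.homOfLE_apply _ _
      exact hz.2 (e ▸ hm)
    · intro hy
      exact ⟨⟨y.1, h.le ⟨y.2, hy⟩⟩, Subtype.ext (Scheme.homOfLE_apply _ _)⟩

lemma relCodim_pt {c : ℕ} (hc : WeilCoh.codim X.scheme x = c) {Y : X.scheme.Opens}
    (hx : x ∈ Y) (hY : WeilCoh.dim Y.toScheme = WeilCoh.dim X.scheme) :
    relCodim ((X.ptSub x).res (ptPre X x Y)).scheme (X.res Y).scheme = c := by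
  have h₁ := (dim_ptSub_open X x _ (ptPre_nonempty X hx)).trans (dim_ptSub X x)
  have h₂ := (codim_eq_iff X x c).mp hc
  change (WeilCoh.dim Y.toScheme : ℤ) - (WeilCoh.dim (ptPre X x Y).toScheme : ℤ) = c
  rw [h₁, hY]
  omega

/-- Restriction of a push-forward from the closure of a point to a smaller open. -/
lemma pull_push_pt {Y' Y : X.scheme.Opens} (h : Y' ≤ Y)
    (hd : WeilCoh.dim Y'.toScheme = WeilCoh.dim Y.toScheme)
    (hdW : WeilCoh.dim (ptPre X x Y').toScheme = WeilCoh.dim (ptPre X x Y).toScheme)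
    (M : A.Cat) (i n i' n' : ℤ)
    (hi : i' = i + 2 * relCodim ((X.ptSub x).res (ptPre X x Y)).scheme (X.res Y).scheme)
    (hn : n' = n + relCodim ((X.ptSub x).res (ptPre X x Y)).scheme (X.res Y).scheme)
    (hi' : i' = i + 2 * relCodim ((X.ptSub x).res (ptPre X x Y')).scheme (X.res Y').scheme)
    (hn' : n' = n + relCodim ((X.ptSub x).res (ptPre X x Y')).scheme (X.res Y').scheme)
    (c : T.gp ((X.ptSub x).res (ptPre X x Y)) M i n) :
    (T.pull (X.resLE h hd) M i' n').hom ((T.push (ptMor X x Y) M i n i' n' hi hn).hom c) =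
      (T.push (ptMor X x Y') M i n i' n' hi' hn').hom
        ((T.pull ((X.ptSub x).resLE (ptPre_mono X x h) hdW)
          M i n).hom c) :=
  congr($(T.push_pull (ptMor X x Y) (ptMor X x Y') (X.resLE h hd)
    ((X.ptSub x).resLE (ptPre_mono X x h) hdW)
    (isPullback_ptMor X x h) M i n i' n' hi hn hi' hn').hom c)

/-- Between `U` and a larger open there is a neighbourhood of a maximal point outside `U`. -/
lemma exists_step {U O : X.scheme.Opens} (hUO : U ≤ O) (hxO : x ∈ O)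
    (hx : IsMaximalIn (U : Set X.scheme)ᶜ x) :
    ∃ Y : X.scheme.Opens, U ≤ Y ∧ Y ≤ O ∧ x ∈ Y ∧
      (Y : Set X.scheme) ∩ (closure {x})ᶜ = U := by
  obtain ⟨Y, hxY, hUY, hY⟩ := exists_open_inter_subset X U.2.isClosed_compl hx
  refine ⟨Y ⊓ O, le_inf (fun y hy => hUY (not_not.mpr hy)) hUO, inf_le_right, ⟨hxY, hxO⟩, ?_⟩
  ext y
  refine ⟨fun ⟨⟨hy, _⟩, hyx⟩ => ?_, fun hy => ⟨⟨hUY (not_not.mpr hy), hUO hy⟩, ?_⟩⟩
  · by_contra hyU
    exact hyx (hY ⟨hy, hyU⟩)
  · intro hyx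
    exact hx.1 ((specializes_iff_mem_closure.mpr hyx).mem_open U.2 hy)

end Point

section Step

variable {X : Obj V} {x : X.scheme} {c : ℕ} (hc : WeilCoh.codim X.scheme x = c) (M : A.Cat)

include hc in
lemma ptDecomp_codim {Y U : X.scheme.Opens} (hx : x ∈ Y)
    (hY : WeilCoh.dim Y.toScheme = WeilCoh.dim X.scheme)
    (h : (Y : Set X.scheme) ∩ (closure {x})ᶜ = U)
    (hd : WeilCoh.dim U.toScheme = WeilCoh.dim Y.toScheme) :
    (ptDecomp X x Y U h hd).codim = c :=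
  relCodim_pt X x hc hx hY

include hc in
/-- A class on `U` whose residue dies at the group of `x` extends past `x`. -/
lemma exists_extension {j : ℕ} {U : Idx X (ContainsFj X j)} {Y : X.scheme.Opens} (hx : x ∈ Y)
    (h : (Y : Set X.scheme) ∩ (closure {x})ᶜ = U.1)
    (hd : WeilCoh.dim U.1.toScheme = WeilCoh.dim Y.toScheme)
    (i n i' n' : ℤ) (hi : i' = i + 1 - 2 * (c : ℤ)) (hn : n' = n - (c : ℤ))
    (b : T.gp (X.res U.1) M i n)
    (hi₁ : i' = i + 1 - 2 * (ptDecomp X x Y U.1 h hd).codim)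
    (hn₁ : n' = n - (ptDecomp X x Y U.1 h hd).codim)
    (hb : cls T M i' n' (mkPtIdx X (ptPre X x Y) (ptPre_nonempty X hx))
      ((T.res (ptDecomp X x Y U.1 h hd) M i n i' n' hi₁ hn₁).hom b) = 0) :
    ∃ (Y' : Idx X (ContainsFj X j)) (hUY : U.1 ≤ Y'.1), x ∈ Y'.1 ∧ Y'.1 ≤ Y ∧
      ∃ b' : T.gp (X.res Y'.1) M i n,
        (T.pull (X.resLE hUY (U.2.2.trans Y'.2.2.symm)) M i n).hom b' = b := by
  have := nonempty_ptIdx X x
  obtain ⟨W, hW, hW0⟩ := exists_pull_eq_zero T M i' n' (dir_pt X x) hb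
  obtain ⟨O, hxO, -, hOc, hOW⟩ := exists_ptPre_eq X x W.1 W.2.1
  have hUY : U.1 ≤ Y := fun y hy => (h.ge hy).1
  let Y' := Y ⊓ O
  have hUY' : U.1 ≤ Y' := le_inf hUY fun y hy => hOc (h.ge hy).2
  let Y'' := mkIdx X Y' fun y hy => hUY' (U.2.1 y hy)
  have hxY' : x ∈ Y' := ⟨hx, hxO⟩
  have hU' : (Y' : Set X.scheme) ∩ (closure {x})ᶜ = U.1 := by
    ext y
    exact ⟨fun hy => h.le ⟨hy.1.1, hy.2⟩, fun hy => ⟨hUY' hy, (h.ge hy).2⟩⟩
  have hd' : WeilCoh.dim U.1.toScheme = WeilCoh.dim Y'.toScheme := U.2.2.trans Y''.2.2.symm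
  have hc' : (ptDecomp X x Y' U.1 hU' hd').codim = c :=
    ptDecomp_codim hc hxY' Y''.2.2 hU' hd'
  refine ⟨Y'', hUY', ⟨hx, hxO⟩, inf_le_left, ?_⟩
  refine exists_of_res_eq_zero T (ptDecomp X x Y' U.1 hU' hd') M i n i' n'
    (by rw [hc']; exact hi) (by rw [hc']; exact hn) b ?_
  have hW' : ptPre X x Y' ≤ W.1 := (ptPre_mono X x inf_le_right).trans hOW.le
  have hdW : WeilCoh.dim (ptPre X x Y').toScheme = WeilCoh.dim W.1.toScheme :=
    (dim_ptSub_open X x _ (ptPre_nonempty X hxY')).trans W.2.2.symm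
  have key := congr($(T.res_pull (ptDecomp X x Y U.1 h hd) (ptDecomp X x Y' U.1 hU' hd')
    (X.resLE inf_le_left (hd'.symm.trans hd))
    ((X.ptSub x).resLE (ptPre_mono X x inf_le_left)
      ((dim_ptSub_open X x _ (ptPre_nonempty X hxY')).trans
        (dim_ptSub_open X x _ (ptPre_nonempty X hx)).symm))
    (𝟙 (X.res U.1)) (homOfLE_ptMor X x inf_le_left)
    ((Category.id_comp _).trans (resLE_comp X hUY' inf_le_left hd' (hd'.symm.trans hd)).symm)
    M i n i' n' hi₁ hn₁ (by rw [hc']; exact hi) (by rw [hc']; exact hn)).hom b)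
  have e : (T.pull (𝟙 (X.res U.1)) M i n).hom b = b := pull_id T M i n b
  refine ((congrArg _ e).symm.trans key.symm).trans ?_
  change (T.pull ((X.ptSub x).resLE _ _) M i' n').hom _ = 0
  refine (pull_resLE_resLE T (X.ptSub x) hW' hW hdW (W.2.2.trans
    (dim_ptSub_open X x _ (ptPre_nonempty X hx)).symm) M i' n' _).symm.trans ?_
  exact (congrArg _ hW0).trans (map_zero _)

include hc in
/-- A class on `Y` vanishing off the closure of `x` comes from a class on that closure. -/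
lemma exists_push_pt {Y U : X.scheme.Opens} (hx : x ∈ Y)
    (hY : WeilCoh.dim Y.toScheme = WeilCoh.dim X.scheme)
    (h : (Y : Set X.scheme) ∩ (closure {x})ᶜ = U)
    (hd : WeilCoh.dim U.toScheme = WeilCoh.dim Y.toScheme)
    (i n i' n' : ℤ) (hi : i = i' + 2 * (c : ℤ)) (hn : n = n' + (c : ℤ))
    (b : T.gp (X.res Y) M i n)
    (hb : (T.pull (X.resLE (fun y hy => (h.ge hy).1) hd) M i n).hom b = 0) :
    ∃ e : T.gp ((X.ptSub x).res (ptPre X x Y)) M i' n',
      (T.push (ptMor X x Y) M i' n' i n (by rw [relCodim_pt X x hc hx hY]; exact hi)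
        (by rw [relCodim_pt X x hc hx hY]; exact hn)).hom e = b :=
  exists_of_pull_j_eq_zero T (ptDecomp X x Y U h hd) M i n i' n' _ _ b hb

end Step

end Groth.Agent.BMCoh
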