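import Groth.Agent.BMCoh.Middle

set_option autoImplicit false
set_option linter.unusedSectionVars false
universe u

open AlgebraicGeometry CategoryTheory CategoryTheory.Limits Opposite TopologicalSpace Topology BMCoh

noncomputable section

namespace Groth.Agent.BMCoh

variable {V : ObjectProperty Scheme.{u}} [IsConstructible V] {R : Type u} [CommRing R] {A : Coefs R}
  {T : PreTheory V R A} {X : Obj V}

lemma exists_layout_zero (X : Obj V) :
    ∃ (S : Finset (X.cdPt 0)) (O : Idx X (ContainsFj X 0)), (∀ x : X.cdPt 0, x ∈ S) ∧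
      (O.1 : Set X.scheme) ⊆ unionCl S ∧ ∀ x ∈ S, ∀ y ∈ S, x ≠ y →
        (O.1 : Set X.scheme) ∩ (closure {x.1} ∩ closure {y.1}) = ∅ := by
  obtain ⟨S, O, hS, -, hO, hd⟩ := exists_layout (X := X) (c := 0) isClosed_univ
    (fun y _ => Nat.zero_le _)
  exact ⟨S, O, fun x => (hS x).mpr trivial, fun y hy => hO ⟨hy, trivial⟩, hd⟩

/-- Near the generic points of top dimension a reduced object is a disjoint union. -/
lemma exists_family_zero [IsReduced X.scheme] (S : Finset (X.cdPt 0))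
    (Ω : Idx X (ContainsFj X 0)) (hΩ : (Ω.1 : Set X.scheme) ⊆ unionCl S)
    (hdisj : ∀ x ∈ S, ∀ y ∈ S, x ≠ y →
      (Ω.1 : Set X.scheme) ∩ (closure {x.1} ∩ closure {y.1}) = ∅) :
    ∃ g : ∀ x : S, (X.ptSub x.1.1).res (ptPre X x.1.1 Ω.1) ⟶ X.res Ω.1,
      (∀ x, IsProper (g x).hom) ∧ (∀ x, (g x).hom = ptMor X x.1.1 Ω.1) ∧
      (Pairwise fun x y => Disjoint (Set.range (g x).hom) (Set.range (g y).hom)) ∧
      ⋃ x, Set.range (g x).hom = Set.univ := by
  have : IsReduced (X.res Ω.1).scheme := isReduced_of_isOpenImmersion Ω.1.ι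
  obtain ⟨g, hp, hg, hd, hc⟩ := exists_family (Z := X.res Ω.1) S Ω hdisj (𝟙 _) (by
    ext y
    exact iff_of_true ⟨y, rfl⟩ (hΩ ((Scheme.Opens.range_ι Ω.1).le ⟨y, rfl⟩)))
  exact ⟨g, hp, fun x => (Category.comp_id _).symm.trans (hg x), hd, hc⟩

lemma tot_bijective_zero (T : PreTheory V R A) (X : Obj V) [IsReduced X.scheme]
    (P : T.PushData X 0) (M : A.Cat) (i n i' n' : ℤ) (hi : i' = i + 2 * ((0 : ℕ) : ℤ))
    (hn : n' = n + ((0 : ℕ) : ℤ)) : Function.Bijective (P.tot M i n i' n' hi hn).hom := by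
  classical
  obtain ⟨S, O, hS, hO, hdisj⟩ := exists_layout_zero X
  obtain rfl : i' = i := by simpa using hi
  obtain rfl : n' = n := by simpa using hn
  refine ⟨(injective_iff_map_eq_zero _).mpr fun z hz => ?_, fun a => ?_⟩
  · obtain ⟨O₂, -, he⟩ := exists_common_rep (T := T) S M i' n' (fun x => z x)
    choose e he using he
    obtain ⟨Ω, hΩ₁, hΩ₂⟩ := dir_fj X 0 O O₂
    have hm : ∀ (Ω : Idx X (ContainsFj X 0)) (x : S), x.1.1 ∈ Ω.1 :=
      fun Ω x => Ω.2.1 _ x.1.2.le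
    have hdp : ∀ (Ω Ω' : Idx X (ContainsFj X 0)) (x : S),
        WeilCoh.dim (ptPre X x.1.1 Ω.1).toScheme = WeilCoh.dim (ptPre X x.1.1 Ω'.1).toScheme :=
      fun Ω Ω' x => (dim_ptSub_open X _ _ (ptPre_nonempty X (hm Ω x))).trans
        (dim_ptSub_open X _ _ (ptPre_nonempty X (hm Ω' x))).symm
    have hidx : ∀ (Ω : Idx X (ContainsFj X 0)) (x : S),
        i' = i' + 2 * relCodim ((X.ptSub x.1.1).res (ptPre X x.1.1 Ω.1)).scheme (X.res Ω.1).scheme ∧
        n' = n' + relCodim ((X.ptSub x.1.1).res (ptPre X x.1.1 Ω.1)).scheme (X.res Ω.1).scheme := by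
      intro Ω x
      rw [relCodim_pt X x.1.1 x.1.2 (hm Ω x) Ω.2.2]
      simp
    let e₀ : ∀ x : S, T.gp ((X.ptSub x.1.1).res (ptPre X x.1.1 Ω.1)) M i' n' := fun x =>
      (T.pull ((X.ptSub x.1.1).resLE (ptPre_mono X x.1.1 hΩ₂) (hdp Ω O₂ x)) M i' n').hom (e x)
    have he₀ : ∀ x : S, cls T M i' n'
        (mkPtIdx X (ptPre X x.1.1 Ω.1) (ptPre_nonempty X (hm Ω x))) (e₀ x) = z x.1 := fun x =>
      (cls_pull T M i' n'
        (U := mkPtIdx X (ptPre X x.1.1 Ω.1) (ptPre_nonempty X (hm Ω x)))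
        (U' := mkPtIdx X (ptPre X x.1.1 O₂.1) (ptPre_nonempty X (hm O₂ x)))
        (ptPre_mono X x.1.1 hΩ₂) (hdp Ω O₂ x) (e x)).trans (he x)
    let p₀ := fun x : S => (T.push (ptMor X x.1.1 Ω.1) M i' n' i' n' (hidx Ω x).1
      (hidx Ω x).2).hom (e₀ x)
    have hsum : ∑ x ∈ S, (P.cpt x M i' n' i' n' hi hn).hom (z x) = 0 := by
      have h := congrArg (P.tot M i' n' i' n' hi hn).hom
        (eq_sum_lof T S M i' n' z (fun x hx => absurd (hS x) hx))
      rw [hz, map_sum] at h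
      refine (Finset.sum_congr rfl fun x _ => ?_).trans h.symm
      exact (P.tot_lof M i' n' i' n' hi hn x (z x)).symm
    have hcls : cls T M i' n' Ω (∑ x : S, p₀ x) = 0 := by
      rw [← hsum, ← Finset.sum_coe_sort S]
      refine (map_sum _ _ _).trans (Finset.sum_congr rfl fun x _ => ?_)
      rw [← he₀ x]
      exact (pushData_cpt_eq P x.1 Ω M i' n' i' n' hi hn (hidx Ω x).1 (hidx Ω x).2 (e₀ x)).symm
    obtain ⟨Ω', hΩ', hΩ0⟩ := exists_pull_eq_zero T M i' n' (dir_fj X 0) hcls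
    obtain ⟨g, hgp, hg, hgd, -⟩ := exists_family_zero S Ω'
      (fun y hy => hO ((hΩ'.trans hΩ₁) hy))
      (fun x hx y hy hxy => Set.subset_eq_empty
        (Set.inter_subset_inter_left _ (hΩ'.trans hΩ₁)) (hdisj x hx y hy hxy))
    let e' : ∀ x : S, T.gp ((X.ptSub x.1.1).res (ptPre X x.1.1 Ω'.1)) M i' n' := fun x =>
      (T.pull ((X.ptSub x.1.1).resLE (ptPre_mono X x.1.1 hΩ') (hdp Ω' Ω x)) M i' n').hom (e₀ x)
    have hw : ∑ x : S, (T.push (g x).hom M i' n' i' n' (by rw [relCodim_hom (g x)]; ring)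
        (by rw [relCodim_hom (g x)]; ring)).hom (e' x) = 0 := by
      rw [← hΩ0]
      simp only [map_sum]
      refine Finset.sum_congr rfl fun x _ => ?_
      rw [push_congr T (hg x)]
      exact (pull_push_pt T X x.1.1 hΩ' (Ω'.2.2.trans Ω.2.2.symm) (hdp Ω' Ω x) M i' n' i' n'
        _ _ _ _ (e₀ x)).symm
    refine DFinsupp.ext fun y => ?_
    have h := pull_sum_push T g hgd M i' n' e' ⟨y, hS y⟩
    rw [hw, map_zero] at h
    change z y = 0
    rw [← he₀ ⟨y, hS y⟩, ← cls_pull T M i' n'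
      (U := mkPtIdx X (ptPre X y.1 Ω'.1) (ptPre_nonempty X (hm Ω' ⟨y, hS y⟩)))
      (U' := mkPtIdx X (ptPre X y.1 Ω.1) (ptPre_nonempty X (hm Ω ⟨y, hS y⟩)))
      (ptPre_mono X y.1 hΩ') (hdp Ω' Ω ⟨y, hS y⟩)]
    exact (congrArg _ h.symm).trans (map_zero _)
  · obtain ⟨U, b, rfl⟩ := exists_rep T M i' n' (dir_fj X 0) a
    obtain ⟨Ω, hΩ₁, hΩ₂⟩ := dir_fj X 0 O U
    obtain ⟨g, hgp, hg, hgd, hgc⟩ := exists_family_zero S Ω (fun y hy => hO (hΩ₁ hy))
      (fun x hx y hy hxy => Set.subset_eq_empty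
        (Set.inter_subset_inter_left _ hΩ₁) (hdisj x hx y hy hxy))
    let b' := (T.pull (X.resLE hΩ₂ (Ω.2.2.trans U.2.2.symm)) M i' n').hom b
    refine ⟨∑ x : S, DirectSum.lof R (X.cdPt 0) (fun y : X.cdPt 0 => T.ptGp X y.1 M i' n') x.1
      (cls T M i' n' (mkPtIdx X (ptPre X x.1.1 Ω.1) (ptPre_nonempty X (Ω.2.1 _ x.1.2.le)))
        ((T.pull (g x) M i' n').hom b')), ?_⟩
    rw [map_sum, ← cls_pull T M i' n' hΩ₂ (Ω.2.2.trans U.2.2.symm) b]
    change _ = cls T M i' n' Ω b'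
    conv_rhs => rw [← sum_push_pull T g hgd hgc M i' n' b']
    refine Eq.trans (Finset.sum_congr rfl fun x _ => ?_) (map_sum _ _ _).symm
    have hr := relCodim_pt X x.1.1 x.1.2 (Ω.2.1 _ x.1.2.le) Ω.2.2
    refine (P.tot_lof M i' n' i' n' hi hn x.1 _).trans ?_
    refine (pushData_cpt_eq P x.1 Ω M i' n' i' n' hi hn (by rw [hr]; simp) (by rw [hr]; simp) _).trans ?_
    rw [← push_congr T (hg x)]

lemma fjGp_zero_isZero (T : PreTheory V R A) (X : Obj V) [IsReduced X.scheme] (M : A.Cat) (i n : ℤ)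
    (h : ∀ x : X.scheme, WeilCoh.codim X.scheme x = 0 → IsZero (T.ptGp X x M i n)) :
    IsZero (T.fjGp X 0 M i n) := by
  classical
  suffices h0 : ∀ a : T.fjGp X 0 M i n, a = 0 by
    have : Subsingleton (T.fjGp X 0 M i n) := ⟨fun a b => (h0 a).trans (h0 b).symm⟩
    exact ModuleCat.isZero_of_subsingleton _
  intro a
  obtain ⟨S, O, hS, hO, hdisj⟩ := exists_layout_zero X
  obtain ⟨U, b, rfl⟩ := exists_rep T M i n (dir_fj X 0) a
  obtain ⟨Ω, hΩ₁, hΩ₂⟩ := dir_fj X 0 O U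
  obtain ⟨g, -, hg, -, -⟩ := exists_family_zero S Ω (fun y hy => hO (hΩ₁ hy))
    (fun x hx y hy hxy => Set.subset_eq_empty
      (Set.inter_subset_inter_left _ hΩ₁) (hdisj x hx y hy hxy))
  have hdΩ := Ω.2.2.trans U.2.2.symm
  let b' := (T.pull (X.resLE hΩ₂ hdΩ) M i n).hom b
  have hex : ∀ x : S, ∃ O' : X.scheme.Opens, ContainsFj X 0 O' ∧ ∃ (W : ptIdx X x.1.1)
      (hW : W.1 ≤ ptPre X x.1.1 Ω.1), ptPre X x.1.1 O' ≤ W.1 ∧
      (T.pull ((X.ptSub x.1.1).resLE hW (W.2.2.trans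
        (dim_ptSub_open X _ _ (ptPre_nonempty X (Ω.2.1 _ x.1.2.le))).symm)) M i n).hom
        ((T.pull (g x) M i n).hom b') = 0 := by
    intro x
    have := nonempty_ptIdx X x.1.1
    have := ModuleCat.subsingleton_of_isZero (h x.1.1 x.1.2)
    obtain ⟨W, hW, hW0⟩ := exists_pull_eq_zero T M i n (dir_pt X x.1.1)
      (U := mkPtIdx X (ptPre X x.1.1 Ω.1) (ptPre_nonempty X (Ω.2.1 _ x.1.2.le)))
      (b := (T.pull (g x) M i n).hom b') (Subsingleton.elim _ _)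
    obtain ⟨O', -, hO', -, hO'W⟩ := exists_ptPre_eq X x.1.1 W.1 W.2.1
    rw [x.1.2] at hO'
    exact ⟨O', hO', W, hW, hO'W.le, hW0⟩
  choose O' hO' W hW hOW hW0 using hex
  let Ω' := mkIdx X (Ω.1 ⊓ Finset.univ.inf O') (fun y hy => ⟨Ω.2.1 y hy, by
    rw [TopologicalSpace.Opens.coe_finset_inf]
    simpa using fun x hx => hO' ⟨x, hx⟩ y hy⟩)
  obtain ⟨g', hgp', hg', hgd', hgc'⟩ := exists_family_zero S Ω'
    (fun y hy => hO (hΩ₁ hy.1))
    (fun x hx y hy hxy => Set.subset_eq_empty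
      (Set.inter_subset_inter_left _ fun z hz => hΩ₁ hz.1) (hdisj x hx y hy hxy))
  have hle : Ω'.1 ≤ Ω.1 := inf_le_left
  have hd' : WeilCoh.dim Ω'.1.toScheme = WeilCoh.dim Ω.1.toScheme := Ω'.2.2.trans Ω.2.2.symm
  have key : (T.pull (X.resLE hle hd') M i n).hom b' = 0 := by
    refine eq_zero_of_pull_family T g' hgd' hgc' M i n _ fun x => ?_
    have hdp : WeilCoh.dim (ptPre X x.1.1 Ω'.1).toScheme = WeilCoh.dim (ptPre X x.1.1 Ω.1).toScheme :=
      (dim_ptSub_open X _ _ (ptPre_nonempty X (Ω'.2.1 _ x.1.2.le))).trans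
        (dim_ptSub_open X _ _ (ptPre_nonempty X (Ω.2.1 _ x.1.2.le))).symm
    have e : g' x ≫ X.resLE hle hd' =
        (X.ptSub x.1.1).resLE (ptPre_mono X x.1.1 hle) hdp ≫ g x := by
      refine BMCoh.Hom.ext ?_
      simp only [BMCoh.comp_hom, hg, hg']
      exact (homOfLE_ptMor X x.1.1 hle).symm
    rw [pull_pull, e, ← pull_pull]
    have hWle : ptPre X x.1.1 Ω'.1 ≤ (W x).1 :=
      ((ptPre_mono X x.1.1 inf_le_right).trans
        (ptPre_mono X x.1.1 (Finset.inf_le (Finset.mem_univ x)))).trans (hOW x)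
    refine (pull_resLE_resLE T (X.ptSub x.1.1) hWle (hW x)
      ((dim_ptSub_open X _ _ (ptPre_nonempty X (Ω'.2.1 _ x.1.2.le))).trans (W x).2.2.symm)
      ((W x).2.2.trans (dim_ptSub_open X _ _ (ptPre_nonempty X (Ω.2.1 _ x.1.2.le))).symm)
      M i n _).symm.trans ?_
    exact (congrArg _ (hW0 x)).trans (map_zero _)
  rw [← cls_pull T M i n hΩ₂ hdΩ b]
  change cls T M i n Ω b' = 0
  rw [← cls_pull T M i n (U := Ω') hle hd' b']
  exact (congrArg _ key).trans (map_zero _)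

lemma fjGp_isZero (T : PreTheory V R A) (X : Obj V) [IsReduced X.scheme] (M : A.Cat) (c : ℤ)
    (hc : ∀ (y : X.scheme) (i n : ℤ), (WeilCoh.pdim X.scheme y : ℤ) + c < i →
      IsZero (T.ptGp X y M i n))
    (j : ℕ) (i n : ℤ) (hi : (WeilCoh.dim X.scheme : ℤ) + j + c < i) :
    IsZero (T.fjGp X j M i n) := by
  induction j with
  | zero =>
    refine fjGp_zero_isZero T X M i n fun x hx => hc x i n ?_
    have := (codim_eq_iff X x 0).mp hx
    omega
  | succ j ih =>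
    have := ModuleCat.subsingleton_of_isZero (ih (by push_cast at hi; omega))
    have hinj := fjRes_injective T X M j i n fun x hx => hc x _ _ (by
      have := (codim_eq_iff X x (j + 1)).mp hx
      push_cast at hi
      omega)
    have := hinj.subsingleton
    exact ModuleCat.isZero_of_subsingleton _

end Groth.Agent.BMCoh
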